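import Cfsg.Agent.DFourDegree.Elements

/-!
# The torus and the reflections on the parabolic of the highest root of `³D₄`
-/

set_option autoImplicit false

namespace CfsgLib.DFourDegree

open Cfsg.Lie CfsgLib.Chevalley CfsgLib.GraphTwist
open CfsgLib.DFourTorus (H4 hSplit fU)
open scoped MatrixGroups

variable {K : Type*} [Field K] (Φ : FieldTwist setupD4 K)

/-- A fixed element conjugates orbit elements to orbit elements. -/
theorem conj_oX_fixed {g : GL chevD4.Idx K} (hg : g ∈ Φ.fix) {r r' : Root chevD4} {t t' : K}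
    (h : g * X setupD4.good.good r t * g⁻¹ = X setupD4.good.good r' t')
    (hsz : setupD4.osize r' = setupD4.osize r) : g * Φ.oX r t * g⁻¹ = Φ.oX r' t' := by
  rw [FieldTwist.oX, FieldTwist.oX, hsz, ← h, ← MulAut.conj_apply, map_list_prod, List.map_map]
  refine congrArg List.prod (List.map_congr_left fun j _ => ?_)
  rw [Function.comp_apply, MulAut.conj_apply, map_mul, map_mul, map_inv, Φ.pow_apply_fix hg]

theorem conj_oX_self {g : GL chevD4.Idx K} (hg : g ∈ Φ.fix) {r : Root chevD4} {t c : K}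
    (h : g * X setupD4.good.good r t * g⁻¹ = X setupD4.good.good r (c * t)) :
    g * Φ.oX r t * g⁻¹ = Φ.oX r (c * t) := conj_oX_fixed Φ hg h rfl

theorem pairing_facts : ∀ p ∈
    [(14, [-1, 2, -1, -1]), (19, [1, 1, -1, -1]), (21, [1, 0, 1, -1]), (22, [1, -1, 1, 1]),
      (23, [0, 1, 0, 0])],
    ([18, 14, 13, 12].map fun s => chevD4.pairing s p.1) = p.2 := by
  decide +kernel

theorem H4_conj (n r : ℕ) (hn : n < 24) (hr : r < 24) (u : Kˣ) (t : K) :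
    H4 n u hn * xx r t hr * (H4 n u hn)⁻¹ =
      xx r (((u ^ chevD4.pairing n r : Kˣ) : K) * t) hr :=
  DFourTorus.hT_conj_X setupD4.good _ _ u t

/-- The homomorphism of the field. -/
abbrev fh : K →+* K := Φ.f.toRingHom

theorem hSplit_conj (a : Kˣ) (r : ℕ) (hr : r < 24) (t : K) :
    hSplit (fh Φ) a * xx r t hr * (hSplit (fh Φ) a)⁻¹ =
      xx r (((a ^ chevD4.pairing 18 r * fU (fh Φ) a ^ chevD4.pairing 13 r *
        fU (fh Φ) (fU (fh Φ) a) ^ chevD4.pairing 12 r : Kˣ) : K) * t) hr := by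
  rw [hSplit, show ∀ a b c p : GL chevD4.Idx K, a * b * c * p * (a * b * c)⁻¹ =
    a * (b * (c * p * c⁻¹) * b⁻¹) * a⁻¹ from fun a b c p => by group, H4_conj, H4_conj, H4_conj]
  simp only [Units.val_mul, mul_assoc]

/-- The element scaling the parabolic radical. -/
def scalE (a : Kˣ) : GL chevD4.Idx K := H4 14 a * H4 14 a * hSplit (fh Φ) a

theorem scalE_conj (a : Kˣ) (ha : Φ.f a = a) (t : K) :
    scalE Φ a * xx 14 t * (scalE Φ a)⁻¹ = xx 14 ((a : K) * t) ∧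
    scalE Φ a * xx 19 t * (scalE Φ a)⁻¹ = xx 19 ((a : K) * t) ∧
    scalE Φ a * xx 21 t * (scalE Φ a)⁻¹ = xx 21 ((a : K) * t) ∧
    scalE Φ a * xx 22 t * (scalE Φ a)⁻¹ = xx 22 ((a : K) * t) ∧
    scalE Φ a * xx 23 t * (scalE Φ a)⁻¹ = xx 23 ((a : K) * a * t) := by
  have hfa : fU (fh Φ) a = a := Units.ext ha
  have hna : (a : K) ≠ 0 := a.ne_zero
  have e : ∀ p ∈ _, _ = _ := pairing_facts
  simp only [List.forall_mem_cons, List.map_cons, List.map_nil, List.cons.injEq, and_true] at e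
  obtain ⟨⟨a1, a2, a3, a4⟩, ⟨b1, b2, b3, b4⟩, ⟨c1, c2, c3, c4⟩, ⟨d1, d2, d3, d4⟩, ⟨f1, f2, f3', f4⟩,
    -⟩ := e
  refine ⟨?_, ?_, ?_, ?_, ?_⟩
  all_goals rw [scalE, show ∀ a b c p : GL chevD4.Idx K, a * b * c * p * (a * b * c)⁻¹ =
    a * (b * (c * p * c⁻¹) * b⁻¹) * a⁻¹ from fun a b c p => by group, hSplit_conj, H4_conj, H4_conj,
    hfa, hfa]
  all_goals simp only [a1, a2, a3, a4, b1, b2, b3, b4, c1, c2, c3, c4, d1, d2, d3, d4, f1, f2, f3',
    f4, Units.val_mul, Units.val_one, Units.val_inv_eq_inv_val, zpow_zero, zpow_one, zpow_two,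
    zpow_neg, one_mul, mul_one]
  all_goals congr 1
  all_goals field_simp

/-- The weights of the split torus. -/
theorem hSplit_weights (a : Kˣ) (t : K) :
    hSplit (fh Φ) a * xx 14 t * (hSplit (fh Φ) a)⁻¹ = xx 14 ((nm3 Φ (a : K))⁻¹ * t) ∧
    hSplit (fh Φ) a * xx 19 t * (hSplit (fh Φ) a)⁻¹ =
      xx 19 ((a : K) / (Φ.f a * Φ.f (Φ.f a)) * t) ∧
    hSplit (fh Φ) a * xx 21 t * (hSplit (fh Φ) a)⁻¹ =
      xx 21 ((a : K) * Φ.f a / Φ.f (Φ.f a) * t) ∧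
    hSplit (fh Φ) a * xx 22 t * (hSplit (fh Φ) a)⁻¹ = xx 22 (nm3 Φ (a : K) * t) ∧
    hSplit (fh Φ) a * xx 23 t * (hSplit (fh Φ) a)⁻¹ = xx 23 t := by
  have e : ∀ p ∈ _, _ = _ := pairing_facts
  simp only [List.forall_mem_cons, List.map_cons, List.map_nil, List.cons.injEq, and_true] at e
  obtain ⟨⟨a1, a2, a3, a4⟩, ⟨b1, b2, b3, b4⟩, ⟨c1, c2, c3, c4⟩, ⟨d1, d2, d3, d4⟩, ⟨f1, f2, f3', f4⟩,
    -⟩ := e
  refine ⟨?_, ?_, ?_, ?_, ?_⟩
  all_goals rw [hSplit_conj]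
  all_goals simp only [a1, a3, a4, b1, b3, b4, c1, c3, c4, d1, d3, d4, f1, f3', f4, Units.val_mul,
    Units.val_one, zpow_zero, zpow_one, zpow_neg_one, one_mul, mul_one,
    DFourTorus.coe_fU, Units.val_inv_eq_inv_val, RingEquiv.toRingHom_eq_coe, RingHom.coe_coe, nm3]
  all_goals congr 1
  all_goals field_simp

theorem H14_x23 (a : Kˣ) (t : K) : H4 14 a * xx 23 t * (H4 14 a)⁻¹ = xx 23 ((a : K) * t) := by
  rw [H4_conj, show chevD4.pairing 14 23 = 1 by decide +kernel, zpow_one]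

/-- The orbit of the outer nodes. -/
abbrev oD0 : Fin setupD4.cfg.m := ⟨0, by decide⟩

/-- The orbit of the central node. -/
abbrev oD1 : Fin setupD4.cfg.m := ⟨1, by decide⟩

theorem wR_facts :
    setupD4.wR oD0 (rr 14) = rr 22 ∧ setupD4.wR oD0 (rr 22) = rr 14 ∧ setupD4.wR oD0 (rr 23) = rr 23 ∧
    setupD4.wR oD0 (rr 18) = rr 5 ∧
    setupD4.wR oD1 (rr 22) = rr 23 ∧ setupD4.wR oD1 (rr 23) = rr 22 ∧ setupD4.wR oD1 (rr 14) = rr 9 := by
  simp only [Fin.ext_iff, Setup.wR_val]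
  decide +kernel

theorem spR_facts : (setupD4.spR oD0 = rr 18 ∧ (setupD4.spR oD0).rev = rr 5) ∧
    (setupD4.spR oD1 = rr 14 ∧ (setupD4.spR oD1).rev = rr 9) := by
  simp only [Fin.ext_iff]
  decide +kernel

/-- The orbit reflections move orbit elements with a non-zero admissible scalar. -/
theorem nO_conj (o : Fin setupD4.cfg.m) (a b : ℕ) (ha : a < 24) (hb : b < 24)
    (h : setupD4.wR o (rr a ha) = rr b hb) : ∃ c : Kˣ, ∀ t : K, Φ.Adm (rr a ha) t →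
      Φ.Adm (rr b hb) ((c : K) * t) ∧
        Φ.nO o * Φ.oX (rr a ha) t * (Φ.nO o)⁻¹ = Φ.oX (rr b hb) ((c : K) * t) := by
  obtain ⟨c, hc⟩ := Φ.conj_oX (Φ.monBy_nO o) (Φ.nO_mem_fix o) (rr a ha)
  exact ⟨c, fun t ht => h ▸ hc t ht⟩

end CfsgLib.DFourDegree
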