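import Cfsg.Agent.GraphTwist.FamilyD4
import Cfsg.Agent.DFourTorus.Frame

/-!
# Root elements of `³D₄` in the parabolic of the highest root

Products and conjugations of the orbit root elements, as identities of matrices: `x14`, `yE`, `wE`,
`x22` span the unipotent radical modulo the highest root group `x23`.
-/

set_option autoImplicit false

namespace CfsgLib.DFourDegree

open Cfsg.Lie CfsgLib.Chevalley CfsgLib.GraphTwist
open scoped MatrixGroups

variable {K : Type*} [Field K]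

/-- A root by index. -/
abbrev rr (n : ℕ) (h : n < 24 := by decide) : Root chevD4 := ⟨n, h⟩

/-- A root element. -/
abbrev xx (n : ℕ) (t : K) (h : n < 24 := by decide) : GL chevD4.Idx K :=
  X setupD4.good.good (rr n h) t

/-- The pairs of roots whose commutator is trivial. -/
def flatPairs : List (ℕ × ℕ) :=
  [(14, 23), (19, 23), (16, 23), (15, 23), (21, 23), (20, 23), (17, 23), (22, 23), (18, 23),
    (13, 23), (12, 23), (14, 19), (14, 16), (14, 15), (14, 21), (14, 20), (14, 17), (19, 22),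
    (16, 22), (15, 22), (21, 22), (20, 22), (17, 22), (18, 22), (13, 22), (12, 22), (19, 21),
    (19, 20), (18, 21), (18, 20), (12, 15), (13, 16), (18, 19), (20, 17), (13, 17), (15, 17), (16, 21), (15, 20)]

theorem flat_facts : ∀ p ∈ flatPairs, ∀ (h : p.1 < 24) (h' : p.2 < 24),
    rr p.2 h' ≠ rr p.1 h ∧ rr p.1 h ≠ (rr p.2 h').rev ∧ chevD4.commTerms p.1 p.2 = [] := by
  decide +kernel

theorem comm_xx (a b : ℕ) (hab : (a, b) ∈ flatPairs) (s u : K) (ha : a < 24 := by decide)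
    (hb : b < 24 := by decide) : Commute (xx a s ha) (xx b u hb) := by
  obtain ⟨h1, h2, h3⟩ := flat_facts _ hab ha hb
  exact DFourTorus.commute_X setupD4.good h1 h2 h3 s u

/-- The pairs with a single commutator term. -/
def onePairs : List (ℕ × ℕ × ℕ × ℤ) :=
  [(12, 14, 15, 1), (13, 14, 16, 1), (13, 15, 17, 1), (18, 14, 19, -1), (18, 16, 21, -1),
    (18, 15, 20, -1), (18, 17, 22, -1), (21, 15, 23, 1), (14, 22, 23, 1), (19, 17, 23, -1)]

theorem one_facts : ∀ p ∈ onePairs, ∀ (h : p.1 < 24) (h' : p.2.1 < 24),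
    rr p.2.1 h' ≠ rr p.1 h ∧ rr p.2.1 h' ≠ (rr p.1 h).rev ∧
      chevD4.commTerms p.1 p.2.1 = [(p.2.2.1, p.2.2.2, 1, 1)] := by
  decide +kernel

theorem one_flat : ∀ p ∈ onePairs,
    (p.1, p.2.2.1) ∈ flatPairs ∧ (p.2.1, p.2.2.1) ∈ flatPairs := by
  decide +kernel

/-- A single commutator term. -/
theorem xx_comm (a b c : ℕ) (e : ℤ) (hab : (a, b, c, e) ∈ onePairs) (t u : K)
    (ha : a < 24 := by decide) (hb : b < 24 := by decide) (hc : c < 24 := by decide) :
    xx a t ha * xx b u hb = xx c ((e : K) * t * u) hc * (xx b u hb * xx a t ha) := by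
  obtain ⟨h1, h2, h3⟩ := one_facts _ hab ha hb
  obtain ⟨h4, h5⟩ := one_flat _ hab
  have h := X_comm setupD4.good.toGoodComm (rr a ha) (rr b hb) h1 h2 t u
  rw [commRhs, h3] at h
  have e1 : (wordGL setupD4.good.toGoodComm.good (List.map (fun x : ℕ × ℤ × ℕ × ℕ =>
      (x.1, (x.2.1 : K) * (-t) ^ x.2.2.1 * u ^ x.2.2.2)) [(c, e, 1, 1)]) : GL chevD4.Idx K) =
      xx c (-((e : K) * t * u)) hc := by
    rw [List.map_cons, List.map_nil, show ([(c, (e : K) * (-t) ^ 1 * u ^ 1)] : List (ℕ × K)) =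
      [((rr c hc : ℕ), -((e : K) * t * u))] by simp, wordGL_cons]
    simp [wordGL]
  rw [e1] at h
  have hca : Commute (xx c (-((e : K) * t * u)) hc) (xx a t ha) := (comm_xx a c h4 _ _ ha hc).symm
  have hcb : Commute (xx c (-((e : K) * t * u)) hc) (xx b u hb) := (comm_xx b c h5 _ _ hb hc).symm
  have hinv : xx c ((e : K) * t * u) hc = (xx c (-((e : K) * t * u)) hc)⁻¹ := by
    simp only [xx, X_inv, neg_neg]
  rw [hinv, eq_inv_mul_iff_mul_eq, h, (hca.mul_right hcb).eq]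

/-- Conjugation with a single commutator term. -/
theorem xx_conj (a b c : ℕ) (e : ℤ) (hab : (a, b, c, e) ∈ onePairs) (t u : K)
    (ha : a < 24 := by decide) (hb : b < 24 := by decide) (hc : c < 24 := by decide) :
    xx a t ha * xx b u hb * (xx a t ha)⁻¹ = xx b u hb * xx c ((e : K) * t * u) hc := by
  obtain ⟨-, h5⟩ := one_flat _ hab
  rw [xx_comm a b c e hab t u ha hb hc, ← mul_assoc, mul_inv_cancel_right]
  exact ((comm_xx b c h5 _ _ hb hc).symm).eq

theorem conj_flat (a b : ℕ) (hab : (a, b) ∈ flatPairs) (t u : K) (ha : a < 24 := by decide)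
    (hb : b < 24 := by decide) : xx a t ha * xx b u hb * (xx a t ha)⁻¹ = xx b u hb := by
  rw [(comm_xx a b hab t u ha hb).eq, mul_inv_cancel_right]

theorem root_facts :
    setupD4.σR (rr 14) = rr 14 ∧ setupD4.σR (rr 9) = rr 9 ∧ setupD4.σR (rr 22) = rr 22 ∧
    setupD4.σR (rr 23) = rr 23 ∧
    setupD4.σR (rr 19) = rr 16 ∧ setupD4.σR (rr 16) = rr 15 ∧
    setupD4.σR (rr 21) = rr 17 ∧ setupD4.σR (rr 17) = rr 20 ∧
    setupD4.σR (rr 18) = rr 13 ∧ setupD4.σR (rr 13) = rr 12 ∧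
    setupD4.σR (rr 20) = rr 21 ∧ setupD4.σR (rr 15) = rr 19 ∧ setupD4.σR (rr 12) = rr 18 ∧
    setupD4.σR (rr 5) ≠ rr 5 := by
  simp only [ne_eq, Fin.ext_iff, Setup.σR_val]
  decide +kernel

theorem sgn_facts : setupD4.cfg.S.sgn 14 = 1 ∧ setupD4.cfg.S.sgn 22 = 1 ∧ setupD4.cfg.S.sgn 23 = 1 ∧
    setupD4.cfg.S.sgn 19 = -1 ∧ setupD4.cfg.S.sgn 16 = 1 ∧ setupD4.cfg.S.sgn 15 = -1 ∧
    setupD4.cfg.S.sgn 21 = -1 ∧ setupD4.cfg.S.sgn 17 = -1 ∧ setupD4.cfg.S.sgn 20 = 1 ∧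
    setupD4.cfg.S.sgn 18 = 1 ∧ setupD4.cfg.S.sgn 13 = 1 := by
  decide +kernel

theorem osize_facts : setupD4.osize (rr 14) = 1 ∧ setupD4.osize (rr 9) = 1 ∧
    setupD4.osize (rr 22) = 1 ∧ setupD4.osize (rr 23) = 1 ∧ setupD4.osize (rr 19) = 3 ∧
    setupD4.osize (rr 21) = 3 ∧ setupD4.osize (rr 18) = 3 ∧ setupD4.osize (rr 5) = 3 := by
  decide +kernel

variable (Φ : FieldTwist setupD4 K)

/-- An orbit of three. -/
theorem oX_three (a b c : ℕ) (ha : a < 24) (hb : b < 24) (hc : c < 24)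
    (h1 : setupD4.σR (rr a ha) = rr b hb) (h2 : setupD4.σR (rr b hb) = rr c hc)
    (h3 : setupD4.osize (rr a ha) = 3) (t : K) :
    Φ.oX (rr a ha) t = xx a t ha * xx b ((setupD4.cfg.S.sgn a : K) * Φ.f t) hb *
      xx c ((setupD4.cfg.S.sgn b : K) * ((setupD4.cfg.S.sgn a : K) * Φ.f (Φ.f t))) hc := by
  rw [FieldTwist.oX, h3]
  simp only [List.range_succ, List.range_zero, List.map_append, List.map_cons, List.map_nil,
    List.prod_append, List.prod_cons, List.prod_nil, mul_one, List.nil_append,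
    pow_succ', pow_zero, MulAut.mul_apply, MulAut.one_apply, Φ.Ψ_X, h1, h2, map_mul, map_intCast]

theorem oX_one' (a : ℕ) (ha : a < 24) (h : setupD4.osize (rr a ha) = 1) (t : K) :
    Φ.oX (rr a ha) t = xx a t ha := by
  simp [FieldTwist.oX, h]

/-- The element of `a + b`. -/
abbrev yE (t : K) : GL chevD4.Idx K := Φ.oX (rr 19) t

/-- The element of `2 a + b`. -/
abbrev wE (t : K) : GL chevD4.Idx K := Φ.oX (rr 21) t

/-- The element of `a`. -/
abbrev uE (t : K) : GL chevD4.Idx K := Φ.oX (rr 18) t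

theorem yE_eq (t : K) : yE Φ t = xx 19 t * xx 16 (-Φ.f t) * xx 15 (-Φ.f (Φ.f t)) := by
  rw [yE, oX_three Φ 19 16 15 _ _ _ root_facts.2.2.2.2.1 root_facts.2.2.2.2.2.1
    osize_facts.2.2.2.2.1, sgn_facts.2.2.2.1, sgn_facts.2.2.2.2.1]
  simp

theorem wE_eq (t : K) : wE Φ t = xx 21 t * xx 17 (-Φ.f t) * xx 20 (Φ.f (Φ.f t)) := by
  rw [wE, oX_three Φ 21 17 20 _ _ _ root_facts.2.2.2.2.2.2.1 root_facts.2.2.2.2.2.2.2.1
    osize_facts.2.2.2.2.2.1, sgn_facts.2.2.2.2.2.2.1, sgn_facts.2.2.2.2.2.2.2.1]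
  simp

theorem uE_eq (t : K) : uE Φ t = xx 18 t * xx 13 (Φ.f t) * xx 12 (Φ.f (Φ.f t)) := by
  rw [uE, oX_three Φ 18 13 12 _ _ _ root_facts.2.2.2.2.2.2.2.2.1
    root_facts.2.2.2.2.2.2.2.2.2.1 osize_facts.2.2.2.2.2.2.1,
    sgn_facts.2.2.2.2.2.2.2.2.2.1, sgn_facts.2.2.2.2.2.2.2.2.2.2]
  simp

/-- The relative trace. -/
def tr3 (x : K) : K := x + Φ.f x + Φ.f (Φ.f x)

/-- The relative norm. -/
def nm3 (x : K) : K := x * Φ.f x * Φ.f (Φ.f x)

theorem f3 (x : K) : Φ.f (Φ.f (Φ.f x)) = x := Φ.periodic x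

theorem f_tr3 (x : K) : Φ.f (tr3 Φ x) = tr3 Φ x := by
  rw [tr3, map_add, map_add, f3]; ring

theorem f_nm3 (x : K) : Φ.f (nm3 Φ x) = nm3 Φ x := by
  rw [nm3, map_mul, map_mul, f3]; ring

section Flat

variable (t u : K)

theorem comm_x23_y : Commute (xx 23 u) (yE Φ t) := by
  rw [yE_eq]
  exact (((comm_xx 19 23 (by decide) _ _).symm.mul_right (comm_xx 16 23 (by decide) _ _).symm)).mul_right
    (comm_xx 15 23 (by decide) _ _).symm

theorem comm_x23_w : Commute (xx 23 u) (wE Φ t) := by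
  rw [wE_eq]
  exact (((comm_xx 21 23 (by decide) _ _).symm.mul_right (comm_xx 17 23 (by decide) _ _).symm)).mul_right
    (comm_xx 20 23 (by decide) _ _).symm

theorem comm_x23_u : Commute (xx 23 u) (uE Φ t) := by
  rw [uE_eq]
  exact (((comm_xx 18 23 (by decide) _ _).symm.mul_right (comm_xx 13 23 (by decide) _ _).symm)).mul_right
    (comm_xx 12 23 (by decide) _ _).symm

theorem comm_x22_y : Commute (xx 22 u) (yE Φ t) := by
  rw [yE_eq]
  exact (((comm_xx 19 22 (by decide) _ _).symm.mul_right (comm_xx 16 22 (by decide) _ _).symm)).mul_right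
    (comm_xx 15 22 (by decide) _ _).symm

theorem comm_x22_w : Commute (xx 22 u) (wE Φ t) := by
  rw [wE_eq]
  exact (((comm_xx 21 22 (by decide) _ _).symm.mul_right (comm_xx 17 22 (by decide) _ _).symm)).mul_right
    (comm_xx 20 22 (by decide) _ _).symm

theorem comm_x22_u : Commute (xx 22 u) (uE Φ t) := by
  rw [uE_eq]
  exact (((comm_xx 18 22 (by decide) _ _).symm.mul_right (comm_xx 13 22 (by decide) _ _).symm)).mul_right
    (comm_xx 12 22 (by decide) _ _).symm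

theorem comm_x14_y : Commute (xx 14 u) (yE Φ t) := by
  rw [yE_eq]
  exact (((comm_xx 14 19 (by decide) _ _).mul_right (comm_xx 14 16 (by decide) _ _))).mul_right
    (comm_xx 14 15 (by decide) _ _)

theorem comm_x14_w : Commute (xx 14 u) (wE Φ t) := by
  rw [wE_eq]
  exact (((comm_xx 14 21 (by decide) _ _).mul_right (comm_xx 14 17 (by decide) _ _))).mul_right
    (comm_xx 14 20 (by decide) _ _)

end Flat

theorem x14_x22 (a b : K) : xx 14 a * xx 22 b = xx 23 (a * b) * (xx 22 b * xx 14 a) := by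
  simpa using xx_comm 14 22 23 1 (by decide) a b

/-- The images of a product with central commutators. -/
theorem orbit_comm {G : Type*} [Monoid G] {a b c p q r w : G} (h1 : a * w = p * (w * a))
    (h2 : b * w = q * (w * b)) (h3 : c * w = r * (w * c)) (har : Commute a r) (hbr : Commute b r)
    (haq : Commute a q) : a * b * c * w = r * q * p * (w * (a * b * c)) :=
  calc a * b * c * w = a * b * (r * (w * c)) := by rw [mul_assoc, h3]
    _ = r * (a * (b * w) * c) := by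
      rw [← mul_assoc (a * b), (har.mul_left hbr).eq]; simp only [mul_assoc]
    _ = r * (q * (p * (w * a) * b) * c) := by
      rw [h2, ← mul_assoc a, haq.eq, mul_assoc q, ← mul_assoc a, h1]
    _ = r * q * p * (w * (a * b * c)) := by simp only [mul_assoc]

theorem Ψ_xx (a b : ℕ) (ha : a < 24) (hb : b < 24) (h : setupD4.σR (rr a ha) = rr b hb) (t : K) :
    Φ.Ψ (xx a t ha) = xx b ((setupD4.cfg.S.sgn a : K) * Φ.f t) hb := by
  rw [Φ.Ψ_X, h]

theorem Ψ_xx23 (t : K) : Φ.Ψ (xx 23 t) = xx 23 (Φ.f t) := by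
  rw [Ψ_xx Φ 23 23 _ _ root_facts.2.2.2.1, sgn_facts.2.2.1]; simp

theorem Ψ_xx22 (t : K) : Φ.Ψ (xx 22 t) = xx 22 (Φ.f t) := by
  rw [Ψ_xx Φ 22 22 _ _ root_facts.2.2.1, sgn_facts.2.1]; simp

theorem wE_fix (t : K) : Φ.Ψ (wE Φ t) = wE Φ t := by
  refine Φ.mem_fix.1 (Φ.oX_mem_fix fun h => ?_)
  have : setupD4.osize (rr 21) = 1 := by rw [setupD4.osize_eq, if_pos h]
  rw [osize_facts.2.2.2.2.2.1] at this
  omega

/-- `[a + b, 2 a + b]` is the trace form. -/
theorem y_w_comm (t u : K) : yE Φ t * wE Φ u =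
    xx 23 (tr3 Φ (t * Φ.f u)) * (wE Φ u * yE Φ t) := by
  have h1 : xx 19 t * wE Φ u = xx 23 (t * Φ.f u) * (wE Φ u * xx 19 t) := by
    have e := xx_comm 19 17 23 (-1) (by decide) t (-Φ.f u)
    simp only [Int.cast_neg, Int.cast_one, neg_mul, one_mul, mul_neg, neg_neg] at e
    rw [wE_eq, ← mul_assoc, ← mul_assoc, (comm_xx 19 21 (by decide) t u).eq, mul_assoc _ (xx 19 t),
      e, ← mul_assoc, ((comm_xx 21 23 (by decide) u _)).eq]
    simp only [mul_assoc]
    rw [(comm_xx 19 20 (by decide) t _).eq]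
  have h2 := congrArg Φ.Ψ h1
  have h3 := congrArg Φ.Ψ h2
  simp only [map_mul, wE_fix, Ψ_xx23, Ψ_xx Φ 19 16 _ _ root_facts.2.2.2.2.1,
    Ψ_xx Φ 16 15 _ _ root_facts.2.2.2.2.2.1, sgn_facts.2.2.2.1, sgn_facts.2.2.2.2.1, Int.cast_neg,
    Int.cast_one, neg_mul, one_mul, map_neg] at h2 h3
  rw [yE_eq, orbit_comm h1 h2 h3 (comm_xx 19 23 (by decide) _ _) (comm_xx 16 23 (by decide) _ _)
    (comm_xx 19 23 (by decide) _ _), X_mul, X_mul, tr3]
  simp only [map_mul, f3]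
  congr 2
  ring

/-- `[a, 2 a + b]` is the trace form. -/
theorem u_w_comm (t u : K) : uE Φ t * wE Φ u =
    xx 22 (tr3 Φ (t * Φ.f u)) * (wE Φ u * uE Φ t) := by
  have h1 : xx 18 t * wE Φ u = xx 22 (t * Φ.f u) * (wE Φ u * xx 18 t) := by
    have e := xx_comm 18 17 22 (-1) (by decide) t (-Φ.f u)
    simp only [Int.cast_neg, Int.cast_one, neg_mul, one_mul, mul_neg, neg_neg] at e
    rw [wE_eq, ← mul_assoc, ← mul_assoc, (comm_xx 18 21 (by decide) t u).eq, mul_assoc _ (xx 18 t),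
      e, ← mul_assoc, ((comm_xx 21 22 (by decide) u _)).eq]
    simp only [mul_assoc]
    rw [(comm_xx 18 20 (by decide) t _).eq]
  have h2 := congrArg Φ.Ψ h1
  have h3 := congrArg Φ.Ψ h2
  simp only [map_mul, wE_fix, Ψ_xx22, Ψ_xx Φ 18 13 _ _ root_facts.2.2.2.2.2.2.2.2.1,
    Ψ_xx Φ 13 12 _ _ root_facts.2.2.2.2.2.2.2.2.2.1, sgn_facts.2.2.2.2.2.2.2.2.2.1,
    sgn_facts.2.2.2.2.2.2.2.2.2.2, Int.cast_one, one_mul] at h2 h3
  rw [uE_eq, orbit_comm h1 h2 h3 (comm_xx 18 22 (by decide) _ _) (comm_xx 13 22 (by decide) _ _)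
    (comm_xx 18 22 (by decide) _ _), X_mul, X_mul, tr3]
  simp only [map_mul, f3]
  congr 2
  ring

/-- The conjugates of the elements of `b` by those of `a`. -/
theorem u_conj_x14 (t s : K) (hs : Φ.f s = s) : uE Φ t * xx 14 s * (uE Φ t)⁻¹ =
    xx 14 s * yE Φ (-(t * s)) * wE Φ (-(t * Φ.f t * s)) * xx 22 (-(nm3 Φ t * s)) *
      xx 23 (-(nm3 Φ t * s * s)) := by
  set v := Φ.f t with hv
  set w := Φ.f v with hw
  have hfw : Φ.f w = t := f3 Φ t
  have step : ∀ g p r : GL chevD4.Idx K, g * (p * r) * g⁻¹ = (g * p * g⁻¹) * (g * r * g⁻¹) :=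
    fun g p r => by group
  rw [uE_eq, ← hv, ← hw, show ∀ a b c p : GL chevD4.Idx K, a * b * c * p * (a * b * c)⁻¹ =
    a * (b * (c * p * c⁻¹) * b⁻¹) * a⁻¹ from fun a b c p => by group]
  rw [xx_conj 12 14 15 1 (by decide) w s, step (xx 13 v),
    xx_conj 13 14 16 1 (by decide) v s, xx_conj 13 15 17 1 (by decide) v _]
  simp only [step (xx 18 t), xx_conj 18 14 19 (-1) (by decide), xx_conj 18 16 21 (-1) (by decide),
    xx_conj 18 15 20 (-1) (by decide), xx_conj 18 17 22 (-1) (by decide), Int.cast_neg, Int.cast_one,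
    one_mul, neg_mul]
  -- move the element of `21` past that of `15`
  have e := xx_comm 21 15 23 1 (by decide) (-(t * (v * s))) (w * s)
  simp only [Int.cast_one, one_mul] at e
  rw [yE_eq, wE_eq, map_neg, map_neg, map_neg, map_neg, map_mul, map_mul, map_mul, map_mul,
    map_mul, map_mul, hs, hs, ← hv, ← hw, hfw, neg_neg, neg_neg]
  simp only [mul_assoc] at e ⊢
  rw [← mul_assoc (xx 21 (-(t * (v * s))))]
  simp only [← mul_assoc] at e ⊢
  simp only [mul_assoc] at e ⊢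
  rw [← mul_assoc (xx 21 (-(t * (v * s)))) (xx 15 (w * s)), e]
  congr 3
  have hz : ∀ Z A B C D E : GL chevD4.Idx K, Commute Z A → Commute Z B → Commute Z C →
      Commute Z D → Commute Z E → Commute C D →
      Z * (A * B) * (C * (D * E)) = A * (B * (D * (C * (E * Z)))) := by
    intro Z A B C D E hA hB hC hD hE hCD
    rw [((hA.mul_right hB)).eq, ← hE.eq, ← mul_assoc C Z, ← hC.eq, mul_assoc Z C, ← mul_assoc D Z,
      ← hD.eq, mul_assoc Z D, ← mul_assoc D C, ← hCD.eq, mul_assoc C D]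
    simp only [mul_assoc]
  rw [hz _ _ _ _ _ _ (comm_xx 15 23 (by decide) _ _).symm (comm_xx 21 23 (by decide) _ _).symm
    (comm_xx 20 23 (by decide) _ _).symm (comm_xx 17 23 (by decide) _ _).symm
    (comm_xx 22 23 (by decide) _ _).symm (comm_xx 20 17 (by decide) _ _)]
  simp only [neg_neg, nm3, ← hv, ← hw]
  congr 6 <;> ring_nf

end CfsgLib.DFourDegree
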