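import Cfsg.Agent.DFourDegree.Radical
import Mathlib.FieldTheory.Finite.Basic

/-!
# The trace and norm of `GF(q^3) / GF(q)`, and the divisibility excluding one degree
-/

set_option autoImplicit false

namespace CfsgLib.DFourDegree

open Cfsg.Lie CfsgLib.Chevalley CfsgLib.GraphTwist

/-- No degree `(q - 1) (q⁴ + q³ + 1)` divides the order of `³D₄(q)`. -/
theorem not_dvd_order (q : ℕ) (hq : 2 ≤ q) :
    ¬ (q ^ 4 + q ^ 3 + 1) ∣ q ^ 12 * (q ^ 2 - 1) * (q ^ 6 - 1) * (q ^ 8 + q ^ 4 + 1) := by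
  intro h
  set x : ℤ := (q : ℤ) with hx
  set g : ℤ := x ^ 4 + x ^ 3 + 1 with hg
  set b : ℤ := x ^ 2 + x + 1
  set c : ℤ := x ^ 2 - x + 1
  set d : ℤ := x ^ 4 - x ^ 2 + 1
  have cx : IsCoprime g x := ⟨1, -(x ^ 3 + x ^ 2), by ring⟩
  have cp : IsCoprime g (x + 1) := ⟨1, -x ^ 3, by ring⟩
  have cc : IsCoprime g c := ⟨x - 1, 1 - (x - 1) * (x + 1) ^ 2, by ring⟩
  have cd : IsCoprime g d := by
    have h1 : IsCoprime g (x * x * (x + 1)) := (cx.mul_right cx).mul_right cp
    obtain ⟨u, v, huv⟩ := h1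
    exact ⟨u + v, -v, by linear_combination huv⟩
  have h3a : ∀ y : ℤ, g ∣ (x - 1) * y → g ∣ 3 * y := fun y hy => by
    have e : (3 : ℤ) * y = y * g - (x ^ 3 + 2 * x ^ 2 + 2 * x + 2) * ((x - 1) * y) := by ring
    rw [e]
    exact dvd_sub (Dvd.intro_left _ rfl) (dvd_mul_of_dvd_right hy _)
  have h3b : ∀ y : ℤ, g ∣ b * y → g ∣ 3 * y := fun y hy => by
    have e : (3 : ℤ) * y = (b * y) * (1 + (x - 1) * (x ^ 2 - 1)) - (x - 1) * y * g := by ring
    rw [e]
    exact dvd_sub (dvd_mul_of_dvd_left hy _) (Dvd.intro_left _ rfl)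
  have hZ : g ∣ x ^ 12 * ((x - 1) * (x + 1)) * ((x - 1) * b * ((x + 1) * c)) * (b * c * d) := by
    have := Int.natCast_dvd_natCast.2 h
    rw [Nat.cast_mul, Nat.cast_mul, Nat.cast_mul, Nat.cast_sub (Nat.one_le_pow _ _ (by omega)),
      Nat.cast_sub (Nat.one_le_pow _ _ (by omega))] at this
    push_cast at this
    rw [← hx] at this
    refine (dvd_of_eq ?_).trans (this.trans (dvd_of_eq ?_))
    · rfl
    · ring
  have h1 : g ∣ (x - 1) * ((x - 1) * (b * (b * 1))) := by
    have hco : IsCoprime g (x ^ 12 * ((x + 1) * (x + 1)) * (c * c * d)) :=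
      ((cx.pow_right).mul_right (cp.mul_right cp)).mul_right ((cc.mul_right cc).mul_right cd)
    exact hco.dvd_of_dvd_mul_left (hZ.trans (dvd_of_eq (by ring)))
  have h2 : g ∣ b * (b * (3 * (3 * 1))) := by
    have := h3a _ h1
    have := h3a _ (this.trans (dvd_of_eq (by ring)) : g ∣ (x - 1) * (3 * (b * (b * 1))))
    exact this.trans (dvd_of_eq (by ring))
  have h81 : g ∣ 81 := by
    have := h3b _ h2
    have := h3b _ (this.trans (dvd_of_eq (by ring)) : g ∣ b * (3 * (3 * (3 * 1))))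
    exact this.trans (dvd_of_eq (by ring))
  have hn : (q ^ 4 + q ^ 3 + 1) ∣ 81 := by
    rw [hg, hx] at h81
    exact_mod_cast h81
  rcases Nat.lt_or_ge q 4 with hlt | hge
  · interval_cases q <;> norm_num at hn
  · have h4 := Nat.pow_le_pow_left hge 4
    have := Nat.le_of_dvd (by norm_num) hn
    omega

variable {K : Type*} [Field K] (Φ : FieldTwist setupD4 K)

theorem trF_add (x y : K) : trF Φ (x + y) = trF Φ x + trF Φ y :=
  Subtype.ext (by simp only [trF, tr3, map_add, Subfield.coe_add]; ring)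

theorem trF_mul (s : Fx Φ) (x : K) : trF Φ ((s : K) * x) = s * trF Φ x :=
  Subtype.ext (by simp only [trF, tr3, map_mul, fx_fix Φ s, Subfield.coe_mul]; ring)

/-- The additive map of the trace of a multiple. -/
def trPair (t : K) : K →+ Fx Φ where
  toFun w := trF Φ (t * Φ.f w)
  map_zero' := Subtype.ext (by simp [trF, tr3])
  map_add' u v := by rw [map_add, mul_add, trF_add]

variable {q : ℕ} (hf : ∀ x, Φ.f x = x ^ q)
include hf

theorem f_f (x : K) : Φ.f (Φ.f x) = x ^ (q * q) := by rw [hf, hf, pow_mul]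

omit hf in
theorem card_Fx (hfix : Nat.card {x : K // Φ.f x = x} = q) : Nat.card (Fx Φ) = q := hfix

/-- The trace is surjective. -/
theorem trF_surjective [Fintype K] (hq : 2 ≤ q) (hK : Fintype.card K = q ^ 3) :
    Function.Surjective (trF Φ) := by
  classical
  obtain ⟨x, hx⟩ : ∃ x, tr3 Φ x ≠ 0 := by
    by_contra hc
    simp only [not_exists, not_not] at hc
    set P : Polynomial K := Polynomial.X ^ (q * q) + (Polynomial.X ^ q + Polynomial.X) with hP
    have hdeg : (Polynomial.X ^ q + Polynomial.X : Polynomial K).natDegree < q * q := by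
      refine lt_of_le_of_lt (Polynomial.natDegree_add_le _ _) (max_lt ?_ ?_)
      · rw [Polynomial.natDegree_X_pow]; nlinarith
      · rw [Polynomial.natDegree_X]; nlinarith
    have hnd : P.natDegree = q * q := by
      rw [hP, Polynomial.natDegree_add_eq_left_of_natDegree_lt, Polynomial.natDegree_X_pow]
      rwa [Polynomial.natDegree_X_pow]
    have hne : P ≠ 0 := fun h0 => by rw [h0, Polynomial.natDegree_zero] at hnd; nlinarith
    have hroots : ∀ x : K, x ∈ P.roots.toFinset := fun x => by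
      rw [Multiset.mem_toFinset, Polynomial.mem_roots hne, Polynomial.IsRoot]
      have := hc x
      rw [tr3, f_f Φ hf, hf] at this
      simp only [hP, Polynomial.eval_add, Polynomial.eval_pow, Polynomial.eval_X]
      linear_combination this
    have h1 := (Finset.card_le_card (fun x _ => hroots x :
      (Finset.univ : Finset K) ⊆ P.roots.toFinset)).trans (Multiset.toFinset_card_le _)
    have h2 := h1.trans (Polynomial.card_roots' P)
    rw [Finset.card_univ, hK, hnd] at h2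
    nlinarith
  intro s
  refine ⟨((s / trF Φ x : Fx Φ) : K) * x, ?_⟩
  rw [trF_mul, div_mul_cancel₀]
  exact fun h => hx (congrArg Subtype.val h)

theorem trPair_surjective [Fintype K] (hq : 2 ≤ q) (hK : Fintype.card K = q ^ 3) {t : K}
    (ht : t ≠ 0) : Function.Surjective (trPair Φ t) := by
  intro s
  obtain ⟨x, hx⟩ := trF_surjective Φ hf hq hK s
  exact ⟨Φ.f.symm (x / t), by
    show trF Φ (t * Φ.f (Φ.f.symm (x / t))) = s
    rw [RingEquiv.apply_symm_apply, mul_div_cancel₀ _ ht, hx]⟩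

theorem nm3_eq (x : K) : nm3 Φ x = x ^ (1 + q + q * q) := by
  rw [nm3, f_f Φ hf, hf, ← pow_succ' x q, ← pow_add]
  congr 1
  omega

/-- The norm is surjective. -/
theorem nmF_surjective [Fintype K] (hq : 2 ≤ q) (hK : Fintype.card K = q ^ 3) :
    Function.Surjective (nmF Φ) := by
  classical
  intro a
  rcases eq_or_ne a 0 with rfl | ha
  · exact ⟨0, Subtype.ext (by simp [nmF, nm3])⟩
  have ha' : (a : K) ≠ 0 := fun h => ha (Subtype.ext h)
  obtain ⟨g, hg⟩ := IsCyclic.exists_ofOrder_eq_natCard (α := Kˣ)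
  obtain ⟨j, hj⟩ := mem_powers_iff_mem_zpowers.2 (by
    rw [show Subgroup.zpowers g = ⊤ from Subgroup.eq_top_of_card_eq _ (by rw [Nat.card_zpowers, hg])]
    exact Subgroup.mem_top _ : Units.mk0 (a : K) ha' ∈ Subgroup.zpowers g)
  have hord : orderOf g = (q - 1) * (1 + q + q * q) := by
    rw [hg, Nat.card_units, Nat.card_eq_fintype_card, hK]
    obtain ⟨r, rfl⟩ : ∃ r, q = r + 1 := ⟨q - 1, by omega⟩
    rw [Nat.add_sub_cancel]
    exact Nat.sub_eq_of_eq_add (by ring)
  have hfa : Units.mk0 (a : K) ha' ^ (q - 1) = 1 := by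
    apply Units.ext
    apply mul_left_cancel₀ ha'
    rw [Units.val_pow_eq_pow_val, Units.val_mk0, ← pow_succ', Nat.sub_add_cancel (by omega),
      ← hf, fx_fix Φ a, Units.val_one, mul_one]
  dsimp only at hj
  rw [← hj, ← pow_mul, ← orderOf_dvd_iff_pow_eq_one, hord, mul_comm (q - 1),
    Nat.mul_dvd_mul_iff_right (by omega)] at hfa
  obtain ⟨i, rfl⟩ := hfa
  refine ⟨((g ^ i : Kˣ) : K), Subtype.ext ?_⟩
  show nm3 Φ _ = (a : K)
  rw [nm3_eq Φ hf, ← Units.val_pow_eq_pow_val, ← pow_mul, mul_comm i, hj, Units.val_mk0]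

/-- A torus parameter separating the weights of `a + b` and `3 a + b`. -/
theorem exists_weight_ne [Fintype K] (hq : 2 ≤ q) (hK : Fintype.card K = q ^ 3) :
    ∃ a : Kˣ, (a : K) / (Φ.f a * Φ.f (Φ.f a)) ≠ (nmF Φ (a : K) : K) := by
  classical
  obtain ⟨g, hg⟩ := IsCyclic.exists_ofOrder_eq_natCard (α := Kˣ)
  refine ⟨g, fun h => ?_⟩
  have hne : (g : K) ^ q * (g : K) ^ (q * q) ≠ 0 :=
    mul_ne_zero (pow_ne_zero _ g.ne_zero) (pow_ne_zero _ g.ne_zero)
  rw [show ((nmF Φ (g : K) : Fx Φ) : K) = nm3 Φ (g : K) from rfl, nm3_eq Φ hf, f_f Φ hf, hf,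
    div_eq_iff hne, ← pow_add, ← pow_add] at h
  have h1 : g ^ (2 * (q + q * q)) = 1 := by
    apply Units.ext
    apply mul_left_cancel₀ g.ne_zero
    rw [Units.val_pow_eq_pow_val, Units.val_one, mul_one, ← pow_succ']
    exact (h.trans (congrArg ((g : K) ^ ·) (by ring))).symm
  rw [← orderOf_dvd_iff_pow_eq_one, hg, Nat.card_units, Nat.card_eq_fintype_card, hK,
    show 2 * (q + q * q) = q * (2 * (1 + q)) by ring] at h1
  have hco : Nat.Coprime (q ^ 3 - 1) q := by
    have h3 : 1 ≤ q ^ 3 := Nat.one_le_pow _ _ (by omega)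
    refine Nat.Coprime.coprime_dvd_right (dvd_pow_self q three_ne_zero) ?_
    have := Nat.coprime_self_add_right.2 (Nat.coprime_one_right (q ^ 3 - 1))
    rwa [Nat.sub_add_cancel h3] at this
  have := Nat.le_of_dvd (by positivity) (hco.dvd_of_dvd_mul_left h1)
  have h8 : 4 * q ≤ q ^ 3 := by
    have := Nat.mul_le_mul (Nat.mul_le_mul hq hq) (le_refl q)
    calc 4 * q = 2 * 2 * q := by ring
      _ ≤ q * q * q := this
      _ = q ^ 3 := by ring
  omega

end CfsgLib.DFourDegree
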