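import Cfsg.Agent.DFourDegree.Restriction
import Cfsg.Agent.Characters.Integrality

/-!
# Dimensions of fixed spaces in a representation of `³D₄(q)`

With `d` the common multiplicity of the non-trivial weights of the highest root group and `e` the
dimension of the fixed space of the groups of `3 a + b` and `3 a + 2 b`: `q⁴ ∣ d` and
`dim V = e + (q² - 1) d / q`.
-/

set_option autoImplicit false
set_option linter.unusedSectionVars false

namespace CfsgLib.DFourDegree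

open Cfsg.Lie CfsgLib.Chevalley CfsgLib.GraphTwist CfsgLib.RepBounds Module

variable {K : Type*} [Field K] [Fintype K] (Φ : FieldTwist setupD4 K)
  {q : ℕ} (hf : ∀ x, Φ.f x = x ^ q) (htG : twistedD4 K q = Φ.tG)
  (hfix : Nat.card {x : K // Φ.f x = x} = q) (hK : Fintype.card K = q ^ 3) (hq : 2 ≤ q)
  {V : Type*} [AddCommGroup V] [Module ℂ V] [FiniteDimensional ℂ V]
  (ρ : Representation ℂ ↥Φ.tG V)

/-- The character value of the root elements. -/
noncomputable def chz : ℂ := ρ.character (zc Φ 1)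

include hfix in
theorem card_fx : Fintype.card (Fx Φ) = q :=
  (Nat.card_eq_fintype_card).symm.trans (card_Fx Φ hfix)

include hf htG in
theorem char_zc {s : Fx Φ} (hs : s ≠ 0) : ρ.character (zc Φ s) = chz Φ ρ := by
  obtain ⟨g, hg⟩ := exists_conj_zc Φ hf htG (Units.mk0 s hs)
  rw [chz, ← ρ.char_conj (zc Φ 1) g, hg, Units.val_mk0, mul_one]

include hf htG hfix in
/-- The multiplicities of the highest root group. -/
theorem card_mul_mult_aZ (χ : AddChar (Fx Φ) ℂ) :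
    (q : ℂ) * mult (aZ Φ ρ) χ =
      (finrank ℂ V : ℂ) + chz Φ ρ * (if χ = 0 then (q : ℂ) - 1 else -1) := by
  classical
  have hsum : ∑ s : Fx Φ, χ (-s) = if χ = 0 then (q : ℂ) else 0 := by
    rw [Fintype.sum_equiv (Equiv.neg _) (fun s => χ (-s)) (fun s => χ s) (fun s => rfl),
      AddChar.sum_eq_ite, card_fx Φ hfix]
  conv_lhs => rw [← card_fx Φ hfix]
  rw [card_mul_mult, ← Finset.add_sum_erase _ _ (Finset.mem_univ (0 : Fx Φ))]
  have e : ∀ s ∈ Finset.univ.erase (0 : Fx Φ),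
      χ (-s) * LinearMap.trace ℂ V (aZ Φ ρ s) = χ (-s) * chz Φ ρ := fun s hs => by
    rw [resChar_apply, show LinearMap.trace ℂ V (ρ (zc Φ s)) = ρ.character (zc Φ s) from rfl,
      char_zc Φ hf htG ρ (Finset.ne_of_mem_erase hs)]
  rw [Finset.sum_congr rfl e, ← Finset.sum_mul]
  rw [show LinearMap.trace ℂ V (aZ Φ ρ 0) = (finrank ℂ V : ℂ) by
    rw [AddChar.map_zero_eq_one, LinearMap.trace_one], neg_zero, AddChar.map_zero_eq_one, one_mul,
    Finset.sum_erase_eq_sub (Finset.mem_univ _), hsum, neg_zero, AddChar.map_zero_eq_one]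
  split_ifs <;> ring

/-- The abelian subgroup of `zc`, `ac`, `yc`. -/
noncomputable def aM : AddChar (Fx Φ × Fx Φ × K) ↥Φ.tG where
  toFun p := zc Φ p.1 * (ac Φ p.2.1 * yc Φ p.2.2)
  map_zero_eq_one' := by
    show zc Φ (0 : Fx Φ) * (ac Φ (0 : Fx Φ) * yc Φ (0 : K)) = 1
    simp only [AddChar.map_zero_eq_one, mul_one]
  map_add_eq_mul' u v := by
    simp only [Prod.fst_add, Prod.snd_add, AddChar.map_add_eq_mul]
    rw [(ac_yc Φ v.2.1 u.2.2).mul_mul_mul_comm (ac Φ u.2.1) (yc Φ v.2.2)]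
    exact (((zc_central Φ v.1).1 u.2.1).mul_right ((zc_central Φ v.1).2.1 u.2.2)).mul_mul_mul_comm
      (zc Φ u.1) _

theorem aM_apply (p : Fx Φ × Fx Φ × K) : aM Φ p = zc Φ p.1 * (ac Φ p.2.1 * yc Φ p.2.2) := rfl

include hf hfix hK hq in
/-- Outside the centre the twisted sums vanish. -/
theorem twisted_sum_zero {l : AddChar (Fx Φ) ℂ} (hl : l ≠ 0) {x : Fx Φ × K} (hx : x ≠ 0) :
    ∑ s, l (-s) * ρ.character (aM Φ (s, x)) = 0 := by
  obtain ⟨c, hc⟩ := AddChar.ne_zero_iff.1 hl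
  obtain ⟨g, hg⟩ : ∃ g : ↥Φ.tG, ∀ s, g * aM Φ (s, x) * g⁻¹ = aM Φ (s + c, x) := by
    obtain ⟨a, y⟩ := x
    suffices H : ∃ g : ↥Φ.tG, (∀ s, Commute g (zc Φ s)) ∧
        g * (ac Φ a * yc Φ y) * g⁻¹ = zc Φ c * (ac Φ a * yc Φ y) by
      obtain ⟨g, h1, h2⟩ := H
      refine ⟨g, fun s => ?_⟩
      simp only [aM_apply]
      rw [← mul_assoc g, (h1 s).eq, mul_assoc (zc Φ s), mul_assoc (zc Φ s), h2,
        AddChar.map_add_eq_mul, mul_assoc]
    rcases eq_or_ne a 0 with rfl | ha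
    · have hy : y ≠ 0 := fun h => hx (by rw [h]; rfl)
      obtain ⟨u, hu⟩ := trPair_surjective Φ hf hq hK hy (-c)
      refine ⟨wc Φ u, fun s => ((zc_central Φ s).2.2.1 u).symm, ?_⟩
      have h := yc_wc Φ y u
      rw [show trF Φ (y * Φ.f u) = -c from hu] at h
      have h2 : wc Φ u * yc Φ y = zc Φ c * (yc Φ y * wc Φ u) := by
        rw [h, ← mul_assoc, ← AddChar.map_add_eq_mul, add_neg_cancel, AddChar.map_zero_eq_one,
          one_mul]
      rw [AddChar.map_zero_eq_one, one_mul, h2, mul_assoc (zc Φ c), mul_inv_cancel_right]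
    · refine ⟨bc Φ (-c / a), fun s => ((zc_central Φ s).2.2.2.1 _).symm, ?_⟩
      have h := ac_bc Φ a (-c / a)
      rw [mul_div_cancel₀ _ ha] at h
      have h2 : bc Φ (-c / a) * ac Φ a = zc Φ c * (ac Φ a * bc Φ (-c / a)) := by
        rw [h, ← mul_assoc, ← AddChar.map_add_eq_mul, add_neg_cancel, AddChar.map_zero_eq_one,
          one_mul]
      rw [← mul_assoc, h2, mul_assoc (zc Φ c), mul_assoc (ac Φ a), (bc_yc Φ _ y).eq,
        ← mul_assoc (ac Φ a), ← mul_assoc (zc Φ c), mul_inv_cancel_right]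
  have e : ∑ s, l (-s) * ρ.character (aM Φ (s, x)) =
      l (-c) * ∑ s, l (-s) * ρ.character (aM Φ (s, x)) := by
    conv_lhs => rw [← Equiv.sum_comp (Equiv.addRight c)]
    conv_rhs => rw [Finset.mul_sum]
    refine Finset.sum_congr rfl fun s _ => ?_
    rw [Equiv.coe_addRight, ← hg s, Representation.char_conj, neg_add, AddChar.map_add_eq_mul]
    ring
  have hc' : l (-c) ≠ 1 := fun h => hc (by
    have := AddChar.map_add_eq_mul l c (-c)
    rw [add_neg_cancel, AddChar.map_zero_eq_one, h, mul_one] at this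
    exact this.symm)
  exact (mul_eq_zero.1 (show (l (-c) - 1) * _ = (0 : ℂ) by rw [sub_mul, one_mul, ← e, sub_self]
    )).resolve_left (sub_ne_zero.2 hc')

include hf hfix hK hq in
/-- A non-trivial weight of the highest root group has multiplicity divisible by `q ^ 4`. -/
theorem exists_mult_eq (l : AddChar (Fx Φ) ℂ) (hl : l ≠ 0) :
    ∃ m : ℕ, mult (aZ Φ ρ) l = q ^ 4 * m := by
  classical
  refine ⟨mult (resChar ρ (aM Φ)) (l.compAddMonoidHom (AddMonoidHom.fst _ _)), ?_⟩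
  apply Nat.cast_injective (R := ℂ)
  apply mul_left_cancel₀ (show (q : ℂ) ≠ 0 from Nat.cast_ne_zero.mpr (by omega))
  have hL := card_mul_mult (aZ Φ ρ) l
  have hR := card_mul_mult (resChar ρ (aM Φ)) (l.compAddMonoidHom (AddMonoidHom.fst _ _))
  rw [Fintype.card_prod, Fintype.card_prod, card_fx Φ hfix, hK, Fintype.sum_prod_type,
    Finset.sum_comm, Finset.sum_eq_single (0 : Fx Φ × K)] at hR
  rotate_left
  · intro x _ hx
    rw [← twisted_sum_zero Φ hf hfix hK hq ρ hl hx]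
    exact Finset.sum_congr rfl fun s _ => rfl
  · simp
  rw [card_fx Φ hfix] at hL
  rw [show ∀ a : ℕ, ((q ^ 4 * a : ℕ) : ℂ) = (q : ℂ) ^ 4 * (a : ℂ) from fun a => by push_cast; ring,
    hL]
  rw [← mul_assoc, show (q : ℂ) * (q : ℂ) ^ 4 = ((q * (q * q ^ 3) : ℕ) : ℂ) by push_cast; ring, hR]
  refine Finset.sum_congr rfl fun s _ => ?_
  simp only [AddChar.compAddMonoidHom_apply, AddMonoidHom.coe_fst, Prod.fst_neg, resChar_apply,
    aM_apply, Prod.fst_zero, Prod.snd_zero, AddChar.map_zero_eq_one, mul_one]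

include hfix hq in
/-- The element exchanging `3 a + b` and `3 a + 2 b`. -/
theorem exists_swap : ∃ c c' : (Fx Φ)ˣ, (∀ s, nG Φ oD1 * bc Φ s * (nG Φ oD1)⁻¹ = zc Φ (c * s)) ∧
    ∀ s, nG Φ oD1 * zc Φ s * (nG Φ oD1)⁻¹ = bc Φ (c' * s) := by
  obtain ⟨c, hc⟩ := nG_fix Φ oD1 22 23 (by decide) (by decide) (by decide) (by decide)
    osize_facts.2.2.1 osize_facts.2.2.2.1 wR_facts.2.2.2.2.1
  obtain ⟨c', hc'⟩ := nG_fix Φ oD1 23 22 (by decide) (by decide) (by decide) (by decide)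
    osize_facts.2.2.2.1 osize_facts.2.2.1 wR_facts.2.2.2.2.2.1
  exact ⟨c, c', hc, hc'⟩

include hfix hq in
/-- The element exchanging `b` and `3 a + b`, fixing the highest root group. -/
theorem exists_flip : ∃ c c' d : (Fx Φ)ˣ, (∀ s, nG Φ oD0 * bc Φ s * (nG Φ oD0)⁻¹ = ac Φ (c * s)) ∧
    (∀ s, nG Φ oD0 * ac Φ s * (nG Φ oD0)⁻¹ = bc Φ (c' * s)) ∧
    ∀ s, nG Φ oD0 * zc Φ s * (nG Φ oD0)⁻¹ = zc Φ (d * s) := by
  obtain ⟨c, hc⟩ := nG_fix Φ oD0 22 14 (by decide) (by decide) (by decide) (by decide)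
    osize_facts.2.2.1 osize_facts.1 wR_facts.2.1
  obtain ⟨c', hc'⟩ := nG_fix Φ oD0 14 22 (by decide) (by decide) (by decide) (by decide)
    osize_facts.1 osize_facts.2.2.1 wR_facts.1
  obtain ⟨d, hd⟩ := nG_fix Φ oD0 23 23 (by decide) (by decide) (by decide) (by decide)
    osize_facts.2.2.2.1 osize_facts.2.2.2.1 wR_facts.2.2.1
  exact ⟨c, c', d, hc, hc', hd⟩

include hf htG hfix hq in
/-- All non-trivial elements of the pair of root groups have the same character value. -/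
theorem char_bc_zc {s : Fx Φ} (hs : s ≠ 0) (t : Fx Φ) :
    ρ.character (bc Φ s * zc Φ t) = chz Φ ρ := by
  obtain ⟨c, -, hc, -⟩ := exists_swap Φ hfix hq
  have e : ac Φ (t / s) * bc Φ s * (ac Φ (t / s))⁻¹ = bc Φ s * zc Φ t := by
    rw [ac_bc, div_mul_cancel₀ _ hs, mul_assoc (zc Φ t), mul_inv_cancel_right]
    exact ((zc_central Φ t).2.2.2.1 s).eq
  rw [← e, Representation.char_conj, ← ρ.char_conj (bc Φ s) (nG Φ oD1), hc,
    char_zc Φ hf htG ρ (mul_ne_zero c.ne_zero hs)]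

include hf htG hfix hq in
theorem char_ac_zc {s : Fx Φ} (hs : s ≠ 0) (t : Fx Φ) :
    ρ.character (ac Φ s * zc Φ t) = chz Φ ρ := by
  obtain ⟨-, c', d, -, hc', hd⟩ := exists_flip Φ hfix hq
  rw [← ρ.char_conj (ac Φ s * zc Φ t) (nG Φ oD0), show ∀ g a b : ↥Φ.tG,
    g * (a * b) * g⁻¹ = g * a * g⁻¹ * (g * b * g⁻¹) from fun g a b => by group, hc', hd,
    char_bc_zc Φ hf htG hfix hq ρ (mul_ne_zero c'.ne_zero hs)]

include hf htG hfix hq in
/-- The fixed space of a root group on the fixed space of the highest root group. -/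
theorem card_mul_fixed (al : AddChar (Fx Φ) (End ℂ ↥(Wz Φ ρ))) (x : Fx Φ → ↥(Nz Φ ρ))
    (hal : ∀ s, al s = sg Φ ρ (x s))
    (hx : ∀ s, s ≠ 0 → ∀ t, ρ.character ((x s : ↥Φ.tG) * zc Φ t) = chz Φ ρ) :
    (q : ℂ) * mult al 0 = (finrank ℂ ↥(Wz Φ ρ) : ℂ) + ((q : ℂ) - 1) * chz Φ ρ := by
  classical
  have hq0 : (q : ℂ) ≠ 0 := Nat.cast_ne_zero.mpr (by omega)
  have ht : ∀ s ∈ Finset.univ.erase (0 : Fx Φ),
      (0 : AddChar (Fx Φ) ℂ) (-s) * LinearMap.trace ℂ _ (al s) = chz Φ ρ := fun s hs => by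
    have h := trace_sg Φ ρ (x s)
    rw [Finset.sum_congr rfl fun t _ => hx s (Finset.ne_of_mem_erase hs) t, Finset.sum_const,
      Finset.card_univ, nsmul_eq_mul, card_fx Φ hfix] at h
    rw [AddChar.zero_apply, one_mul, hal]
    exact mul_left_cancel₀ hq0 h
  conv_lhs => rw [← card_fx Φ hfix]
  rw [card_mul_mult, ← Finset.add_sum_erase _ _ (Finset.mem_univ (0 : Fx Φ)),
    Finset.sum_congr rfl ht, Finset.sum_const, Finset.card_erase_of_mem (Finset.mem_univ _),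
    Finset.card_univ, card_fx Φ hfix, nsmul_eq_mul, Nat.cast_sub (by omega), Nat.cast_one,
    AddChar.zero_apply, one_mul, AddChar.map_zero_eq_one, LinearMap.trace_one]

/-- The fixed space of `3 a + b` in that of the highest root group. -/
noncomputable def eB : ℕ := mult ((aQ Φ ρ).compAddMonoidHom (iB Φ)) 0

/-- The fixed space of `b` in that of the highest root group. -/
noncomputable def eA : ℕ := mult ((aQ Φ ρ).compAddMonoidHom (iA Φ)) 0

include hf htG hfix hK hq in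
/-- The dimensions, in terms of `m` and `eB`. -/
theorem dims : ∃ m : ℕ, (∀ l : AddChar (Fx Φ) ℂ, l ≠ 0 → mult (aZ Φ ρ) l = q ^ 4 * m) ∧
    eA Φ ρ = eB Φ ρ ∧
    (finrank ℂ V : ℤ) = eB Φ ρ + ((q : ℤ) ^ 2 - 1) * ((q : ℤ) ^ 3 * m) ∧
    (finrank ℂ ↥(Wz Φ ρ) : ℤ) = eB Φ ρ + ((q : ℤ) - 1) * ((q : ℤ) ^ 3 * m) := by
  classical
  have hq0 : (q : ℂ) ≠ 0 := Nat.cast_ne_zero.mpr (by omega)
  obtain ⟨l₀, hl₀⟩ : ∃ l : AddChar (Fx Φ) ℂ, l ≠ 0 := by
    have : 1 < Fintype.card (AddChar (Fx Φ) ℂ) := by rw [AddChar.card_eq, card_fx Φ hfix]; omega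
    exact Fintype.exists_ne_of_one_lt_card this 0
  obtain ⟨m, hm⟩ := exists_mult_eq Φ hf hfix hK hq ρ l₀ hl₀
  have h0 := card_mul_mult_aZ Φ hf htG hfix ρ 0
  have h1 := card_mul_mult_aZ Φ hf htG hfix ρ l₀
  rw [if_pos rfl] at h0
  rw [if_neg hl₀, hm, Nat.cast_mul, Nat.cast_pow] at h1
  have hB := card_mul_fixed Φ hf htG hfix hq ρ ((aQ Φ ρ).compAddMonoidHom (iB Φ)) (bN Φ ρ)
    (fun s => aQ_iB Φ ρ s) fun s hs t => char_bc_zc Φ hf htG hfix hq ρ hs t
  have hA := card_mul_fixed Φ hf htG hfix hq ρ ((aQ Φ ρ).compAddMonoidHom (iA Φ)) (aN Φ ρ)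
    (fun s => aQ_iA Φ ρ s) fun s hs t => char_ac_zc Φ hf htG hfix hq ρ hs t
  have hW : (finrank ℂ ↥(Wz Φ ρ) : ℂ) = (mult (aZ Φ ρ) 0 : ℂ) := rfl
  refine ⟨m, fun l hl => ?_, ?_, ?_, ?_⟩
  · apply Nat.cast_injective (R := ℂ)
    apply mul_left_cancel₀ hq0
    rw [card_mul_mult_aZ Φ hf htG hfix ρ l, if_neg hl, Nat.cast_mul, Nat.cast_pow]
    exact h1.symm
  · exact Nat.cast_injective (R := ℂ) (mul_left_cancel₀ hq0 (hA.trans hB.symm))
  · suffices H : (finrank ℂ V : ℂ) = eB Φ ρ + ((q : ℂ) ^ 2 - 1) * ((q : ℂ) ^ 3 * m) by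
      exact_mod_cast H
    apply mul_left_cancel₀ (pow_ne_zero 2 hq0)
    rw [eB]
    linear_combination -(q : ℂ) * hB - h0 + ((q : ℂ) ^ 2 - 1) * (-1) * h1 - (q : ℂ) * hW
  · suffices H : (finrank ℂ ↥(Wz Φ ρ) : ℂ) = eB Φ ρ + ((q : ℂ) - 1) * ((q : ℂ) ^ 3 * m) by
      exact_mod_cast H
    apply mul_left_cancel₀ (pow_ne_zero 2 hq0)
    rw [eB]
    linear_combination -(q : ℂ) * hB + ((q : ℂ) - 1) * h0 - ((q : ℂ) - 1) * h1 +
      (q : ℂ) * ((q : ℂ) - 1) * hW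

end CfsgLib.DFourDegree
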