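import Cfsg.Agent.DFourDegree.Fixed
import Cfsg.Agent.GraphTwist.OrderD4

/-!
# Every irreducible representation of `³D₄(q)` of degree at least two has degree at least
`q (q⁴ - q² + 1)`

`dim V = e + (q² - 1) q³ m` and it remains that `q ≤ e` when `m = 1`. A non-trivial weight of
`Wz` vanishing on `3 a + b` has `q - 1` scalar multiples; so `e = q - 1`, excluded as `dim V` divides
the order, or all fixed vectors of that group are fixed by the whole radical, so there are none by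
irreducibility, and then the weights on `2 a + b`, `3 a + b` have multiplicity one: the one trivial on
`2 a + b` is fixed by the torus, so trivial on `a + b`, and by the norm a conjugate of its vector is
fixed by `b`, a contradiction.
-/

set_option autoImplicit false
set_option linter.unusedSectionVars false

namespace CfsgLib.DFourDegree

open Cfsg.Lie CfsgLib.Chevalley CfsgLib.GraphTwist CfsgLib.RepBounds Module

variable {K : Type*} [Field K] [Fintype K] (Φ : FieldTwist setupD4 K)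
  {q : ℕ} (hf : ∀ x, Φ.f x = x ^ q) (htG : twistedD4 K q = Φ.tG)
  (hfix : Nat.card {x : K // Φ.f x = x} = q) (hK : Fintype.card K = q ^ 3) (hq : 2 ≤ q)
  {V : Type*} [AddCommGroup V] [Module ℂ V] [FiniteDimensional ℂ V]
  (ρ : Representation ℂ ↥Φ.tG V)

theorem chi_ne_zero {A : Type*} [AddCommGroup A] (f : AddChar A ℂ) (x : A) : f x ≠ 0 := by
  intro h
  have := AddChar.map_add_eq_mul f x (-x)
  rw [add_neg_cancel, AddChar.map_zero_eq_one, h, zero_mul] at this
  exact one_ne_zero this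

/-- Multiplication of the coordinates by an element of the fixed field. -/
def scl (a : (Fx Φ)ˣ) : Qbar Φ ≃+ Qbar Φ where
  toFun v := (a * v.1, ((a : Fx Φ) : K) * v.2.1, ((a : Fx Φ) : K) * v.2.2.1, a * v.2.2.2)
  invFun v := (↑a⁻¹ * v.1, ((↑a⁻¹ : Fx Φ) : K) * v.2.1, ((↑a⁻¹ : Fx Φ) : K) * v.2.2.1,
    ↑a⁻¹ * v.2.2.2)
  left_inv v := by
    simp only [← mul_assoc, ← Subfield.coe_mul, Units.inv_mul, one_mul, OneMemClass.coe_one]
  right_inv v := by
    simp only [← mul_assoc, ← Subfield.coe_mul, Units.mul_inv, one_mul, OneMemClass.coe_one]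
  map_add' u v := by simp only [Prod.fst_add, Prod.snd_add, mul_add, Prod.mk_add_mk]

include hf htG in
theorem mult_scl (a : (Fx Φ)ˣ) (f : AddChar (Qbar Φ) ℂ) :
    mult (aQ Φ ρ) (f.compAddMonoidHom (scl Φ a).toAddMonoidHom) = mult (aQ Φ ρ) f := by
  obtain ⟨g, hz, ha, hy, hw, hb⟩ := exists_scalar Φ hf htG a
  have hg : g ∈ Nz Φ ρ := mem_Nz_of_conj Φ ρ
    (π := fun s => (a : Fx Φ) * a * s) (fun s => ⟨((a : Fx Φ) * a)⁻¹ * s, by
      show (a : Fx Φ) * a * _ = s
      rw [← mul_assoc, mul_inv_cancel₀ (mul_ne_zero a.ne_zero a.ne_zero), one_mul]⟩) hz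
  refine mult_conj Φ ρ (aQ Φ ρ) ⟨g, hg⟩ (scl Φ a) (fun v => ?_) f
  rw [aQ_apply, aQ_apply, ← map_mul, ← map_mul]
  congr 1
  refine Subtype.ext ?_
  show g * (ac Φ v.1 * yc Φ v.2.1 * (wc Φ v.2.2.1 * bc Φ v.2.2.2)) =
    ac Φ _ * yc Φ _ * (wc Φ _ * bc Φ _) * g
  rw [show (scl Φ a v).1 = a * v.1 from rfl, show (scl Φ a v).2.1 = ((a : Fx Φ) : K) * v.2.1 from rfl,
    show (scl Φ a v).2.2.1 = ((a : Fx Φ) : K) * v.2.2.1 from rfl,
    show (scl Φ a v).2.2.2 = a * v.2.2.2 from rfl, ← ha, ← hy, ← hw, ← hb]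
  group

include hfix hq in
/-- A non-trivial weight vanishing on `3 a + b` has `q - 1` scalar multiples. -/
theorem sub_one_le_eB (hs : ∀ a f, mult (aQ Φ ρ) (f.compAddMonoidHom (scl Φ a).toAddMonoidHom) =
      mult (aQ Φ ρ) f)
    {f : AddChar (Qbar Φ) ℂ} (h0 : f ≠ 0) (hB : f.compAddMonoidHom (iB Φ) = 0)
    (hpos : 0 < mult (aQ Φ ρ) f) : q - 1 ≤ eB Φ ρ := by
  classical
  set S : (Fx Φ)ˣ → AddChar (Qbar Φ) ℂ := fun a => f.compAddMonoidHom (scl Φ a).toAddMonoidHom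
  have hinj : Function.Injective S := by
    intro a b h
    by_contra hab
    refine h0 (AddChar.eq_zero_iff.2 fun v => ?_)
    have hne : ((a : Fx Φ) : K) - ((b : Fx Φ) : K) ≠ 0 :=
      sub_ne_zero.2 fun e => hab (Units.ext (Subtype.ext e))
    set c : Fx Φ := (a : Fx Φ) - b with hc
    have hc0 : c ≠ 0 := fun e => hne (congrArg Subtype.val e)
    set v' : Qbar Φ := (c⁻¹ * v.1, (c : K)⁻¹ * v.2.1, (c : K)⁻¹ * v.2.2.1, c⁻¹ * v.2.2.2)
    have hv : scl Φ a v' = scl Φ b v' + v := by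
      show ((a : Fx Φ) * (c⁻¹ * v.1), ((a : Fx Φ) : K) * ((c : K)⁻¹ * v.2.1),
        ((a : Fx Φ) : K) * ((c : K)⁻¹ * v.2.2.1), (a : Fx Φ) * (c⁻¹ * v.2.2.2)) =
        ((b : Fx Φ) * (c⁻¹ * v.1) + v.1, ((b : Fx Φ) : K) * ((c : K)⁻¹ * v.2.1) + v.2.1,
        ((b : Fx Φ) : K) * ((c : K)⁻¹ * v.2.2.1) + v.2.2.1, (b : Fx Φ) * (c⁻¹ * v.2.2.2) + v.2.2.2)
      have hcK : (c : K) ≠ 0 := hne
      have e1 : ((a : Fx Φ) : K) = ((b : Fx Φ) : K) + (c : K) := by
        rw [hc, Subfield.coe_sub]; ring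
      have e2 : (a : Fx Φ) = b + c := by rw [hc]; ring
      rw [e1, e2, add_mul, add_mul, add_mul, add_mul, mul_inv_cancel_left₀ hc0,
        mul_inv_cancel_left₀ hc0, mul_inv_cancel_left₀ hcK, mul_inv_cancel_left₀ hcK]
    have := DFunLike.congr_fun h v'
    simp only [S, AddChar.compAddMonoidHom_apply, AddEquiv.coe_toAddMonoidHom] at this
    rw [hv, AddChar.map_add_eq_mul] at this
    exact (mul_eq_left₀ (chi_ne_zero f _)).1 this
  rw [eB, mult_compHom]
  have hcard : Fintype.card (Fx Φ)ˣ = q - 1 := by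
    rw [Fintype.card_units, card_fx Φ hfix]
  calc q - 1 = ∑ _f ∈ Finset.univ.image S, 1 := by
        rw [Finset.sum_const, Finset.card_image_of_injective _ hinj, Finset.card_univ, hcard,
          smul_eq_mul, mul_one]
    _ ≤ ∑ g ∈ Finset.univ.image S, mult (aQ Φ ρ) g := Finset.sum_le_sum fun g hg => by
        obtain ⟨a, -, rfl⟩ := Finset.mem_image.1 hg
        rw [hs]; exact hpos
    _ ≤ _ := Finset.sum_le_sum_of_subset fun g hg => by
        obtain ⟨a, -, rfl⟩ := Finset.mem_image.1 hg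
        refine Finset.mem_filter.2 ⟨Finset.mem_univ _, AddChar.eq_zero_iff.2 fun s => ?_⟩
        simp only [S, AddChar.compAddMonoidHom_apply, AddEquiv.coe_toAddMonoidHom]
        rw [show scl Φ a (iB Φ s) = iB Φ ((a : Fx Φ) * s) by simp [scl, iB, iWB],
          ← AddChar.compAddMonoidHom_apply, hB, AddChar.zero_apply]

/-- The vectors fixed by the highest root group and by `3 a + b`. -/
noncomputable def fixB : Submodule ℂ V where
  carrier := {v | (∀ s, ρ (zc Φ s) v = v) ∧ ∀ s, ρ (bc Φ s) v = v}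
  add_mem' := fun {u v} hu hv =>
    ⟨fun s => by rw [map_add, hu.1, hv.1], fun s => by rw [map_add, hu.2, hv.2]⟩
  zero_mem' := ⟨fun s => map_zero _, fun s => map_zero _⟩
  smul_mem' := fun c v hv => ⟨fun s => by rw [map_smul, hv.1], fun s => by rw [map_smul, hv.2]⟩

/-- The weights of `Wz` trivial on the group of a coordinate are only the trivial one. -/
def OnlyZero (ι : Fx Φ →+ Qbar Φ) : Prop :=
  ∀ f : AddChar (Qbar Φ) ℂ, f ≠ 0 → f.compAddMonoidHom ι = 0 → mult (aQ Φ ρ) f = 0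

theorem eB_split : eB Φ ρ ≥ mult (aQ Φ ρ) 0 ∧
    (OnlyZero Φ ρ (iB Φ) → eB Φ ρ = mult (aQ Φ ρ) 0) ∧
    (eA Φ ρ = mult (aQ Φ ρ) 0 → OnlyZero Φ ρ (iA Φ)) := by
  classical
  have hmem : ∀ ι : Fx Φ →+ Qbar Φ, (0 : AddChar (Qbar Φ) ℂ) ∈
      Finset.univ.filter (fun f : AddChar (Qbar Φ) ℂ => f.compAddMonoidHom ι = 0) := fun ι =>
    Finset.mem_filter.2 ⟨Finset.mem_univ _, AddChar.eq_zero_iff.2 fun _ => rfl⟩
  refine ⟨?_, fun h => ?_, fun h f hf0 hfA => ?_⟩
  · rw [eB, mult_compHom]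
    exact Finset.single_le_sum (f := fun g => mult (aQ Φ ρ) g) (fun _ _ => Nat.zero_le _)
      (hmem (iB Φ))
  · rw [eB, mult_compHom]
    refine Finset.sum_eq_single_of_mem 0 (hmem (iB Φ)) fun f hf hne => h f hne (Finset.mem_filter.1 hf).2
  · rw [eA, mult_compHom, ← Finset.add_sum_erase _ _ (hmem (iA Φ))] at h
    have h' : ∑ g ∈ (Finset.univ.filter fun g : AddChar (Qbar Φ) ℂ =>
        g.compAddMonoidHom (iA Φ) = 0).erase 0, mult (aQ Φ ρ) g = 0 := by omega
    exact Finset.sum_eq_zero_iff.1 h' f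
      (Finset.mem_erase.2 ⟨hf0, Finset.mem_filter.2 ⟨Finset.mem_univ _, hfA⟩⟩)

include hfix hq in
/-- If only the trivial weight vanishes on either coordinate, there is no fixed vector. -/
theorem eB_eq_zero (hZ : ∃ s, ρ (zc Φ s) ≠ 1) (hirr : ρ.IsIrreducible) (hB : OnlyZero Φ ρ (iB Φ))
    (hA : OnlyZero Φ ρ (iA Φ)) : mult (aQ Φ ρ) 0 = 0 := by
  by_contra hne
  set P := fixB Φ ρ
  have memB : ∀ v, v ∈ P → (∀ s, ρ (ac Φ s) v = v) := by
    rintro v ⟨hz, hb⟩ s
    have h := eigen_of_vanish (aQ Φ ρ) (iB Φ) (v := (⟨v, (mem_Wz Φ ρ).2 hz⟩ : ↥(Wz Φ ρ)))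
      (fun t => by rw [aQ_iB]; exact Subtype.ext (hb t)) hB (iA Φ s)
    rw [aQ_iA] at h
    exact congrArg Subtype.val h
  have memA : ∀ v, (∀ s, ρ (zc Φ s) v = v) → (∀ s, ρ (ac Φ s) v = v) → v ∈ P := by
    intro v hz ha
    refine ⟨hz, fun s => ?_⟩
    have h := eigen_of_vanish (aQ Φ ρ) (iA Φ) (v := (⟨v, (mem_Wz Φ ρ).2 hz⟩ : ↥(Wz Φ ρ)))
      (fun t => by rw [aQ_iA]; exact Subtype.ext (ha t)) hA (iB Φ s)
    rw [aQ_iB] at h
    exact congrArg Subtype.val h
  let L : Subgroup ↥Φ.tG :=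
    { carrier := {g | ∀ v, v ∈ P ↔ ρ g v ∈ P}
      one_mem' := fun v => by rw [map_one]; rfl
      mul_mem' := fun {g h} hg hh v => by rw [map_mul, Module.End.mul_apply, ← hg, ← hh]
      inv_mem' := fun {g} hg v => by
        rw [hg (ρ g⁻¹ v), ← Module.End.mul_apply, ← map_mul, mul_inv_cancel, map_one,
          Module.End.one_apply] }
  have hcomm : ∀ (z : Fx Φ → ↥Φ.tG) (g : ↥Φ.tG), (∀ s, Commute (z s) g) → ∀ v,
      (∀ s, ρ (z s) v = v) ↔ ∀ s, ρ (z s) (ρ g v) = ρ g v := fun z g h v =>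
    fixed_iff_of_conj Φ ρ g z z id Function.surjective_id
      (fun s => by rw [← (h s).eq, mul_inv_cancel_right]; rfl) v
  have hL : L = ⊤ := by
    refine top_le Φ L (fun t v => ?_) (fun t v => ?_) fun o v => ?_
    · exact and_congr (hcomm _ _ (fun s => (zc_central Φ s).2.2.2.2.1 t) v)
        (hcomm _ _ (fun s => bc_uc Φ s t) v)
    · refine ⟨fun h => by rw [memB v h t]; exact h, fun h => ?_⟩
      have := memB _ h (-t)
      rw [← Module.End.mul_apply, ← map_mul, ← AddChar.map_add_eq_mul, neg_add_cancel,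
        AddChar.map_zero_eq_one, map_one, Module.End.one_apply] at this
      rwa [← this] at h
    · have hsur : ∀ c : (Fx Φ)ˣ, Function.Surjective fun s : Fx Φ => (c : Fx Φ) * s := fun c x =>
        ⟨(c : Fx Φ)⁻¹ * x, mul_inv_cancel_left₀ c.ne_zero x⟩
      have ho : o = oD0 ∨ o = oD1 := by
        rcases o with ⟨_ | _ | n, hn⟩
        · exact Or.inl rfl
        · exact Or.inr rfl
        · exact absurd hn (by show ¬(n + 2 < 2); omega)
      rcases ho with rfl | rfl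
      · obtain ⟨c, c', d, h1, h2, h3⟩ := exists_flip Φ hfix hq
        constructor
        · rintro ⟨hz, hb⟩
          exact memA _ ((fixed_iff_of_conj Φ ρ _ _ _ _ (hsur d) h3 v).1 hz)
            ((fixed_iff_of_conj Φ ρ _ _ _ _ (hsur c) h1 v).1 hb)
        · intro h
          exact ⟨(fixed_iff_of_conj Φ ρ _ _ _ _ (hsur d) h3 v).2 h.1,
            (fixed_iff_of_conj Φ ρ _ _ _ _ (hsur c) h1 v).2 (memB _ h)⟩
      · obtain ⟨c, c', h1, h2⟩ := exists_swap Φ hfix hq
        exact ⟨fun h => ⟨(fixed_iff_of_conj Φ ρ _ _ _ _ (hsur c) h1 v).1 h.2,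
            (fixed_iff_of_conj Φ ρ _ _ _ _ (hsur c') h2 v).1 h.1⟩,
          fun h => ⟨(fixed_iff_of_conj Φ ρ _ _ _ _ (hsur c') h2 v).2 h.2,
            (fixed_iff_of_conj Φ ρ _ _ _ _ (hsur c) h1 v).2 h.1⟩⟩
  let W : Subrepresentation ρ := ⟨P, fun g v hv => ((show g ∈ L by rw [hL]; trivial) v).1 hv⟩
  obtain ⟨v, hv0, hv⟩ := exists_vec (aQ Φ ρ) 0 (Nat.pos_of_ne_zero hne)
  have hvP : (v : V) ∈ P := ⟨(mem_Wz Φ ρ).1 v.2, fun s => by
    have := congrArg Subtype.val (hv (iB Φ s))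
    rw [aQ_iB, AddChar.zero_apply, one_smul] at this
    exact this⟩
  rcases hirr.eq_bot_or_eq_top W with h | h
  · have : (v : V) ∈ (⊥ : Subrepresentation ρ).toSubmodule := h ▸ hvP
    exact hv0 (Subtype.ext ((Submodule.mem_bot ℂ).1 this))
  · obtain ⟨s, hs⟩ := hZ
    refine hs (LinearMap.ext fun x => ?_)
    have : x ∈ W.toSubmodule := by rw [h]; exact Submodule.mem_top
    exact this.1 s

/-- The shear of `2 a + b`, `3 a + b` by `a`. -/
def shear (t : K) : K × Fx Φ ≃+ K × Fx Φ where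
  toFun v := (v.1, v.2 + trPair Φ t v.1)
  invFun v := (v.1, v.2 - trPair Φ t v.1)
  left_inv v := Prod.ext rfl (add_sub_cancel_right _ _)
  right_inv v := Prod.ext rfl (sub_add_cancel _ _)
  map_add' u v := by
    refine Prod.ext rfl ?_
    simp only [Prod.fst_add, Prod.snd_add, map_add]
    abel

/-- The family of `2 a + b` and `3 a + b`. -/
noncomputable abbrev aWB : AddChar (K × Fx Φ) (End ℂ ↥(Wz Φ ρ)) :=
  (aQ Φ ρ).compAddMonoidHom (iWB Φ)

theorem mult_shear (t : K) (g : AddChar (K × Fx Φ) ℂ) :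
    mult (aWB Φ ρ) (g.compAddMonoidHom (shear Φ t).toAddMonoidHom) = mult (aWB Φ ρ) g := by
  refine mult_conj Φ ρ (aWB Φ ρ) (uN Φ ρ t) (shear Φ t) (fun v => ?_) g
  simp only [AddChar.compAddMonoidHom_apply, aQ_iWB, ← map_mul]
  congr 1
  refine Subtype.ext ?_
  show uc Φ t * (wc Φ v.1 * bc Φ v.2) = wc Φ v.1 * bc Φ (v.2 + trPair Φ t v.1) * uc Φ t
  rw [← mul_assoc, uc_wc, show trPair Φ t v.1 = trF Φ (t * Φ.f v.1) from rfl,
    ← mul_assoc (bc Φ _) (wc Φ v.1), (bc_wc Φ _ v.1).eq, mul_assoc (wc Φ v.1 * bc Φ _),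
    (bc_uc Φ v.2 t).symm.eq, ← mul_assoc, mul_assoc (wc Φ v.1), ← AddChar.map_add_eq_mul,
    add_comm]

include hf htG in
theorem mult_scl_WB (a : (Fx Φ)ˣ) (g : AddChar (K × Fx Φ) ℂ) :
    mult (aWB Φ ρ) (g.compAddMonoidHom
      ((AddMonoidHom.mulLeft ((a : Fx Φ) : K)).prodMap (AddMonoidHom.mulLeft (a : Fx Φ)))) =
      mult (aWB Φ ρ) g := by
  classical
  rw [mult_compHom, mult_compHom]
  refine (Finset.sum_bij (fun f _ => f.compAddMonoidHom (scl Φ a).toAddMonoidHom) ?_ ?_ ?_ ?_).symm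
  · intro f hfm
    refine Finset.mem_filter.2 ⟨Finset.mem_univ _, DFunLike.ext _ _ fun v => ?_⟩
    rw [← (Finset.mem_filter.1 hfm).2]
    simp only [AddChar.compAddMonoidHom_apply, AddEquiv.coe_toAddMonoidHom]
    congr 1
    simp [scl, iWB]
    rfl
  · intro f _ f' _ h
    refine DFunLike.ext _ _ fun v => ?_
    simpa using DFunLike.congr_fun h ((scl Φ a).symm v)
  · intro f hfm
    refine ⟨f.compAddMonoidHom (scl Φ a).symm.toAddMonoidHom,
      Finset.mem_filter.2 ⟨Finset.mem_univ _, DFunLike.ext _ _ fun v => ?_⟩,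
      DFunLike.ext _ _ fun v => by simp⟩
    have e := DFunLike.congr_fun (Finset.mem_filter.1 hfm).2
      ((((a⁻¹ : (Fx Φ)ˣ) : Fx Φ) : K) * v.1, ((a⁻¹ : (Fx Φ)ˣ) : Fx Φ) * v.2)
    simp only [AddChar.compAddMonoidHom_apply, AddEquiv.coe_toAddMonoidHom,
      AddMonoidHom.coe_prodMap, Prod.map_apply, AddMonoidHom.coe_mulLeft, ← mul_assoc,
      ← Subfield.coe_mul, Units.mul_inv, one_mul, OneMemClass.coe_one, Prod.mk.eta] at e ⊢
    rw [← e]
    congr 1
    simp [scl, iWB]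
  · intro f _
    exact (mult_scl Φ hf htG ρ a f).symm

include hf htG hfix hK hq in
/-- The weights on `2 a + b`, `3 a + b` in the last case. -/
theorem mult_WB (h0 : eB Φ ρ = 0)
    (hw : (finrank ℂ ↥(Wz Φ ρ) : ℤ) = ((q : ℤ) - 1) * (q : ℤ) ^ 3) (g : AddChar (K × Fx Φ) ℂ)
    (hg : g.compAddMonoidHom (AddMonoidHom.inr _ _) ≠ 0) : mult (aWB Φ ρ) g = 1 := by
  classical
  set inr' : Fx Φ →+ K × Fx Φ := AddMonoidHom.inr _ _
  set inl' : K →+ K × Fx Φ := AddMonoidHom.inl _ _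
  have hzero : ∀ g : AddChar (K × Fx Φ) ℂ, g.compAddMonoidHom inr' = 0 → mult (aWB Φ ρ) g = 0 := by
    intro g hg
    have h1 : eB Φ ρ = mult ((aWB Φ ρ).compAddMonoidHom inr') 0 := rfl
    rw [h0, mult_compHom] at h1
    exact Finset.sum_eq_zero_iff.1 h1.symm g (Finset.mem_filter.2 ⟨Finset.mem_univ _, hg⟩)
  -- the weights with a given component on `3 a + b` are all sheared into each other
  have hshear : ∀ g g' : AddChar (K × Fx Φ) ℂ, g.compAddMonoidHom inr' ≠ 0 →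
      g.compAddMonoidHom inr' = g'.compAddMonoidHom inr' →
      mult (aWB Φ ρ) g' = mult (aWB Φ ρ) g := by
    intro g g' hg hgg'
    set l := g.compAddMonoidHom inr' with hl
    have hinj : Function.Injective fun t : K => l.compAddMonoidHom (trPair Φ t) := by
      intro t t' h
      by_contra hne
      obtain ⟨s, hs⟩ := AddChar.ne_zero_iff.1 hg
      obtain ⟨w, hw⟩ := trPair_surjective Φ hf hq hK (sub_ne_zero.2 hne) s
      have e : trPair Φ t w = trPair Φ t' w + s := by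
        rw [← hw]
        show trF Φ (t * Φ.f w) = trF Φ (t' * Φ.f w) + trF Φ ((t - t') * Φ.f w)
        rw [← trF_add]; ring_nf
      have := DFunLike.congr_fun h w
      simp only [AddChar.compAddMonoidHom_apply] at this
      rw [e, AddChar.map_add_eq_mul] at this
      exact hs ((mul_eq_left₀ (chi_ne_zero l _)).1 this)
    obtain ⟨t, ht⟩ := ((Fintype.bijective_iff_injective_and_card _).2
      ⟨hinj, AddChar.card_eq.symm⟩).2
        (g'.compAddMonoidHom inl' * (g.compAddMonoidHom inl')⁻¹)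
    rw [← mult_shear Φ ρ t g]
    congr 1
    refine DFunLike.ext _ _ fun v => ?_
    have e1 : v = inl' v.1 + inr' v.2 := by simp [inl', inr']
    have e2 : shear Φ t v = inl' v.1 + inr' (v.2 + trPair Φ t v.1) := by simp [inl', inr', shear]
    rw [AddChar.compAddMonoidHom_apply, AddEquiv.coe_toAddMonoidHom, e2, AddChar.map_add_eq_mul,
      ← AddChar.compAddMonoidHom_apply g inr', ← hl, AddChar.map_add_eq_mul l]
    conv_lhs => rw [e1, AddChar.map_add_eq_mul, ← AddChar.compAddMonoidHom_apply g' inr', ← hgg']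
    have h3 := DFunLike.congr_fun ht v.1
    simp only [AddChar.compAddMonoidHom_apply, AddChar.mul_apply, AddChar.inv_apply] at h3
    have key : g (inl' v.1) * g (inl' (-v.1)) = 1 := by
      rw [← AddChar.map_add_eq_mul, ← map_add, add_neg_cancel, map_zero, AddChar.map_zero_eq_one]
    rw [h3]
    linear_combination -(g' (inl' v.1) * l v.2) * key
  -- so all the non-zero ones have the same multiplicity
  have hall : ∀ g' : AddChar (K × Fx Φ) ℂ, g'.compAddMonoidHom inr' ≠ 0 →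
      mult (aWB Φ ρ) g' = mult (aWB Φ ρ) g := by
    intro g' hg'
    obtain ⟨a, ha⟩ := mulShift_surjective hg (g'.compAddMonoidHom inr')
    have ha0 : a ≠ 0 := by
      rintro rfl
      refine hg' ?_
      rw [← ha]
      exact AddChar.eq_zero_iff.2 fun x => by simp
    rw [← mult_scl_WB Φ hf htG ρ (Units.mk0 a ha0) g]
    refine hshear _ _ ?_ ?_
    · refine fun h => hg' ?_
      rw [← ha]
      refine DFunLike.ext _ _ fun x => ?_
      have := DFunLike.congr_fun h x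
      simpa [inr'] using this
    · rw [← ha]
      exact DFunLike.ext _ _ fun x => by simp [inr']
  have hsum := sum_mult (aWB Φ ρ)
  rw [← Finset.sum_filter_add_sum_filter_not Finset.univ
      (fun g : AddChar (K × Fx Φ) ℂ => g.compAddMonoidHom inr' = 0),
    Finset.sum_eq_zero fun g hg => hzero g (Finset.mem_filter.1 hg).2, zero_add,
    Finset.sum_congr rfl (fun g hg => hall g (Finset.mem_filter.1 hg).2), Finset.sum_const,
    smul_eq_mul] at hsum
  have hcount : (Finset.univ.filter fun g : AddChar (K × Fx Φ) ℂ =>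
      g.compAddMonoidHom inr' = 0).card = q ^ 3 := by
    rw [show Finset.univ.filter (fun g : AddChar (K × Fx Φ) ℂ => g.compAddMonoidHom inr' = 0) =
      Finset.univ.image (fun ψ : AddChar K ℂ => ψ.compAddMonoidHom (AddMonoidHom.fst _ _)) from ?_,
      Finset.card_image_of_injective, Finset.card_univ, AddChar.card_eq, hK]
    · intro ψ ψ' h
      exact DFunLike.ext _ _ fun x => by simpa using DFunLike.congr_fun h (x, 0)
    · ext g
      simp only [Finset.mem_filter, Finset.mem_univ, true_and, Finset.mem_image]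
      refine ⟨fun h => ⟨g.compAddMonoidHom inl', DFunLike.ext _ _ fun v => ?_⟩, ?_⟩
      · have e1 : v = inl' v.1 + inr' v.2 := by simp [inl', inr']
        conv_rhs => rw [e1, AddChar.map_add_eq_mul, ← AddChar.compAddMonoidHom_apply g inr', h,
          AddChar.zero_apply, mul_one]
        rfl
      · rintro ⟨ψ, rfl⟩
        exact AddChar.eq_zero_iff.2 fun x => by simp [inr', AddChar.map_zero_eq_one]
  have htot := Finset.card_filter_add_card_filter_not
    (s := (Finset.univ : Finset (AddChar (K × Fx Φ) ℂ))) (fun g => g.compAddMonoidHom inr' = 0)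
  rw [hcount, Finset.card_univ, AddChar.card_eq, Fintype.card_prod, hK, card_fx Φ hfix] at htot
  have e : (finrank ℂ ↥(Wz Φ ρ)) + q ^ 3 = q ^ 3 * q := by
    have : (finrank ℂ ↥(Wz Φ ρ) : ℤ) + (q : ℤ) ^ 3 = (q : ℤ) ^ 3 * q := by rw [hw]; ring
    exact_mod_cast this
  rw [← hsum] at e
  have hpos : q ^ 3 < q ^ 3 * q := lt_mul_of_one_lt_right (by positivity) (by omega)
  generalize (Finset.univ.filter fun g : AddChar (K × Fx Φ) ℂ =>
      ¬ g.compAddMonoidHom inr' = 0).card = C at e htot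
  exact Nat.eq_of_mul_eq_mul_left (by omega : 0 < C) (by omega)

/-- The torus on the coordinates. -/
def diag (α : (Fx Φ)ˣ) (β γ : Kˣ) : Qbar Φ ≃+ Qbar Φ where
  toFun v := (↑α⁻¹ * v.1, (β : K) * v.2.1, (γ : K) * v.2.2.1, α * v.2.2.2)
  invFun v := (↑α * v.1, ((β⁻¹ : Kˣ) : K) * v.2.1, ((γ⁻¹ : Kˣ) : K) * v.2.2.1,
    ↑α⁻¹ * v.2.2.2)
  left_inv v := by simp only [← mul_assoc, Units.inv_mul, Units.mul_inv, one_mul]
  right_inv v := by simp only [← mul_assoc, Units.inv_mul, Units.mul_inv, one_mul]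
  map_add' u v := by simp only [Prod.fst_add, Prod.snd_add, mul_add, Prod.mk_add_mk]

include hf htG hfix hK hq in
/-- The last case is impossible. -/
theorem last_case (h0 : eB Φ ρ = 0) (hA : eA Φ ρ = 0)
    (hw : (finrank ℂ ↥(Wz Φ ρ) : ℤ) = ((q : ℤ) - 1) * (q : ℤ) ^ 3) : False := by
  classical
  obtain ⟨l, hl⟩ : ∃ l : AddChar (Fx Φ) ℂ, l ≠ 0 := by
    have : 1 < Fintype.card (AddChar (Fx Φ) ℂ) := by rw [AddChar.card_eq, card_fx Φ hfix]; omega
    exact Fintype.exists_ne_of_one_lt_card this 0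
  set g0 : AddChar (K × Fx Φ) ℂ := l.compAddMonoidHom (AddMonoidHom.snd _ _) with hg0
  have hg0r : g0.compAddMonoidHom (AddMonoidHom.inr _ _) = l := DFunLike.ext _ _ fun x => rfl
  have h1 := mult_WB Φ hf htG hfix hK hq ρ h0 hw g0 (by rw [hg0r]; exact hl)
  rw [mult_compHom] at h1
  obtain ⟨f0, hf0m, hf0⟩ := Finset.exists_ne_zero_of_sum_ne_zero (h1.trans_ne one_ne_zero)
  -- the torus fixes the line of this weight
  obtain ⟨τ, hτ⟩ := exists_weight_ne Φ hf hq hK
  obtain ⟨g, μ, hz, ha, hy, hwc, hμ, hb⟩ := exists_split Φ hf htG τ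
  have hN : nmF Φ (τ : K) ≠ 0 := fun e => by
    have e' : nm3 Φ (τ : K) = 0 := congrArg Subtype.val e
    simp [nm3] at e'
  set α : (Fx Φ)ˣ := Units.mk0 _ hN
  set β : Kˣ := Units.mk0 ((τ : K) / (Φ.f τ * Φ.f (Φ.f τ))) (by simp) with hβ
  set σ := diag Φ α β (Units.mk0 μ hμ)
  have hg : g ∈ Nz Φ ρ := mem_Nz_of_conj Φ ρ (π := id) Function.surjective_id hz
  have hσ : mult (aQ Φ ρ) (f0.compAddMonoidHom σ.toAddMonoidHom) = mult (aQ Φ ρ) f0 := by
    refine mult_conj Φ ρ (aQ Φ ρ) ⟨g, hg⟩ σ (fun v => ?_) f0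
    rw [aQ_apply, aQ_apply, ← map_mul, ← map_mul]
    congr 1
    refine Subtype.ext ?_
    show g * (ac Φ v.1 * yc Φ v.2.1 * (wc Φ v.2.2.1 * bc Φ v.2.2.2)) =
      ac Φ _ * yc Φ _ * (wc Φ _ * bc Φ _) * g
    rw [show (σ v).1 = ↑α⁻¹ * v.1 from rfl, show (σ v).2.1 = (β : K) * v.2.1 from rfl,
      show (σ v).2.2.1 = μ * v.2.2.1 from rfl, show (σ v).2.2.2 = (α : Fx Φ) * v.2.2.2 from rfl,
      show ((α⁻¹ : (Fx Φ)ˣ) : Fx Φ) = (nmF Φ (τ : K))⁻¹ from Units.val_inv_eq_inv_val α,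
      show (β : K) = (τ : K) / (Φ.f τ * Φ.f (Φ.f τ)) from rfl,
      show (α : Fx Φ) = nmF Φ (τ : K) from rfl, ← ha, ← hy, ← hwc, ← hb]
    group
  have h00 := (Finset.mem_filter.1 hf0m).2
  have hWval : ∀ (w : K) (b : Fx Φ), f0 (iWB Φ (w, b)) = l b := fun w b => by
    rw [← AddChar.compAddMonoidHom_apply, h00]; rfl
  -- the two translates of `f0` over the same weight agree
  have heq : f0.compAddMonoidHom σ.toAddMonoidHom = f0.compAddMonoidHom (scl Φ α).toAddMonoidHom := by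
    set S := Finset.univ.filter fun f : AddChar (Qbar Φ) ℂ =>
      f.compAddMonoidHom (iWB Φ) = (f0.compAddMonoidHom σ.toAddMonoidHom).compAddMonoidHom (iWB Φ)
    have hS : ∑ f ∈ S, mult (aQ Φ ρ) f = 1 := by
      rw [← mult_compHom]
      refine mult_WB Φ hf htG hfix hK hq ρ h0 hw _ fun e => hl (AddChar.eq_zero_iff.2 fun x => ?_)
      have := DFunLike.congr_fun e (((α⁻¹ : (Fx Φ)ˣ) : Fx Φ) * x)
      simp only [AddChar.compAddMonoidHom_apply, AddEquiv.coe_toAddMonoidHom, AddChar.zero_apply] at this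
      rwa [show σ (iWB Φ (AddMonoidHom.inr K (Fx Φ) (((α⁻¹ : (Fx Φ)ˣ) : Fx Φ) * x))) = iWB Φ (0, x) by
        simp [σ, diag, iWB], hWval] at this
    by_contra hne
    have h2 : ∑ f ∈ ({f0.compAddMonoidHom σ.toAddMonoidHom,
        f0.compAddMonoidHom (scl Φ α).toAddMonoidHom} : Finset (AddChar (Qbar Φ) ℂ)),
        mult (aQ Φ ρ) f ≤ 1 := by
      rw [← hS]
      refine Finset.sum_le_sum_of_subset fun f hf' => ?_
      rcases Finset.mem_insert.1 hf' with rfl | hf'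
      · exact Finset.mem_filter.2 ⟨Finset.mem_univ _, rfl⟩
      · rw [Finset.mem_singleton] at hf'
        subst hf'
        refine Finset.mem_filter.2 ⟨Finset.mem_univ _, DFunLike.ext _ _ fun v => ?_⟩
        simp only [AddChar.compAddMonoidHom_apply, AddEquiv.coe_toAddMonoidHom]
        rw [show scl Φ α (iWB Φ v) = iWB Φ (((α : Fx Φ) : K) * v.1, α * v.2) by simp [scl, iWB],
          show σ (iWB Φ v) = iWB Φ (μ * v.1, α * v.2) by simp [σ, diag, iWB], hWval, hWval]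
    rw [Finset.sum_pair hne, hσ, mult_scl Φ hf htG ρ α f0] at h2
    omega
  have hY : ∀ y, f0 (iY Φ y) = 1 := fun y => by
    have hne : (β : K) - ((α : Fx Φ) : K) ≠ 0 := sub_ne_zero.2 hτ
    set y' := y / ((β : K) - ((α : Fx Φ) : K))
    have e := DFunLike.congr_fun heq (iY Φ y')
    simp only [AddChar.compAddMonoidHom_apply, AddEquiv.coe_toAddMonoidHom] at e
    rw [show scl Φ α (iY Φ y') = iY Φ (((α : Fx Φ) : K) * y') by simp [scl, iY],
      show σ (iY Φ y') = iY Φ ((β : K) * y') by simp [σ, diag, iY],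
      show (β : K) * y' = ((α : Fx Φ) : K) * y' + y by
        rw [← sub_eq_iff_eq_add', ← sub_mul]; exact mul_div_cancel₀ _ hne,
      map_add, AddChar.map_add_eq_mul] at e
    exact (mul_eq_left₀ (chi_ne_zero f0 _)).1 e
  obtain ⟨κ, hκ⟩ := mulShift_surjective hl (f0.compAddMonoidHom (iA Φ))
  obtain ⟨t, ht⟩ := nmF_surjective Φ hf hq hK κ
  obtain ⟨v, hv0, hv⟩ := exists_vec (aQ Φ ρ) f0 (Nat.pos_of_ne_zero hf0)
  set v' := sg Φ ρ (uN Φ ρ t)⁻¹ v with hv'
  have hvv : sg Φ ρ (uN Φ ρ t) v' = v := by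
    rw [hv', ← Module.End.mul_apply, ← map_mul, mul_inv_cancel, map_one, Module.End.one_apply]
  have hpos : 0 < mult ((aQ Φ ρ).compAddMonoidHom (iA Φ)) 0 := by
    refine mult_pos _ _ (v := v') (fun e => hv0 ?_) fun s => ?_
    · rw [← hvv, e, map_zero]
    rw [AddChar.compAddMonoidHom_apply, aQ_iA, AddChar.zero_apply, one_smul]
    have e : uN Φ ρ t * aN Φ ρ s =
        aN Φ ρ s * yN Φ ρ (-(t * s)) * (wN Φ ρ (-(t * Φ.f t * s)) * bN Φ ρ (-(nmF Φ t * s))) *
          zN Φ ρ (-(nmF Φ t * s * s)) * uN Φ ρ t := by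
      refine Subtype.ext ?_
      show uc Φ t * ac Φ s = ac Φ s * yc Φ _ * (wc Φ _ * bc Φ _) * zc Φ _ * uc Φ t
      rw [← mul_assoc (ac Φ s * yc Φ _), ← uc_ac, inv_mul_cancel_right]
    have h2 := LinearMap.congr_fun (congrArg (sg Φ ρ) e) v'
    rw [map_mul, map_mul, map_mul, Module.End.mul_apply, Module.End.mul_apply,
      Module.End.mul_apply, sg_zN, Module.End.one_apply, hvv] at h2
    have h3 := hv (s, -(t * s), -(t * Φ.f t * s), -(nmF Φ t * s))
    rw [aQ_apply] at h3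
    simp only at h3
    rw [h3, qbar_eq Φ (s, -(t * s), -(t * Φ.f t * s), -(nmF Φ t * s)), AddChar.map_add_eq_mul,
      AddChar.map_add_eq_mul, hY, mul_one, hWval, ← AddChar.compAddMonoidHom_apply f0 (iA Φ), ← hκ,
      AddChar.compAddMonoidHom_apply, AddMonoidHom.coe_mulLeft, ← AddChar.map_add_eq_mul, ht,
      add_neg_cancel, AddChar.map_zero_eq_one, one_smul] at h2
    have h4 := congrArg (sg Φ ρ (uN Φ ρ t)⁻¹) h2
    rwa [← Module.End.mul_apply, ← map_mul, inv_mul_cancel, map_one, Module.End.one_apply] at h4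
  have hA' : mult ((aQ Φ ρ).compAddMonoidHom (iA Φ)) 0 = 0 := hA
  omega

omit [FiniteDimensional ℂ V] in
theorem sum_arith {k e m q : ℤ} (hq : 2 ≤ q) (hk : k = e + (q ^ 2 - 1) * (q ^ 3 * m)) (he : 0 ≤ e)
    (hm : 1 ≤ m) (h : k < q * (q ^ 4 - q ^ 2 + 1)) : m = 1 ∧ e < q := by
  have h8 : 8 ≤ q ^ 3 := by
    have := pow_le_pow_left₀ (by norm_num) hq 3
    norm_num at this
    exact this
  have hs : 3 ≤ q ^ 2 - 1 := by nlinarith
  refine ⟨?_, ?_⟩
  · by_contra hne
    have h2 : 2 ≤ m := by omega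
    have : 0 ≤ (q ^ 2 - 1) * q ^ 3 * (m - 2) :=
      mul_nonneg (mul_nonneg (by omega) (by omega)) (by omega)
    nlinarith
  · have : 0 ≤ (q ^ 2 - 1) * q ^ 3 * (m - 1) :=
      mul_nonneg (mul_nonneg (by omega) (by omega)) (by omega)
    nlinarith

include hf htG hfix hK hq in
/-- The bound. -/
theorem degree_bound_tG [Finite ↥Φ.tG] [IsSimpleGroup ↥Φ.tG] (hqp : IsPrimePow q) (hirr : ρ.IsIrreducible)
    (hk : 2 ≤ finrank ℂ V) : q * (q ^ 4 - q ^ 2 + 1) ≤ finrank ℂ V := by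
  classical
  obtain ⟨m, hm, hAB, hV, hW⟩ := dims Φ hf htG hfix hK hq ρ
  have hZ : ∃ s, ρ (zc Φ s) ≠ 1 := by
    refine ⟨1, fun h => ?_⟩
    obtain ⟨g, hg⟩ := exists_ne_one ρ hirr hk
    rcases Subgroup.Normal.eq_bot_or_eq_top (inferInstance : (MonoidHom.ker ρ).Normal) with hb | ht
    · have h1 : zc Φ 1 ∈ MonoidHom.ker ρ := h
      rw [hb, Subgroup.mem_bot] at h1
      have h2 : xx 23 ((1 : Fx Φ) : K) = xx 23 (0 : K) :=
        (congrArg Subtype.val h1).trans (X_zero _ _).symm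
      exact one_ne_zero (X_injective setupD4.good.good _ h2)
    · exact hg (show g ∈ MonoidHom.ker ρ by rw [ht]; trivial)
  have hm0 : m ≠ 0 := by
    rintro rfl
    obtain ⟨s, hs⟩ := hZ
    exact hs (eq_one_of_mult_eq_zero (aZ Φ ρ) (fun l hl => by rw [hm l hl, mul_zero]) s)
  by_contra hcon
  rw [not_le] at hcon
  have hq2 : q ^ 2 ≤ q ^ 4 := Nat.pow_le_pow_right (by omega) (by omega)
  have hconZ : (finrank ℂ V : ℤ) < (q : ℤ) * ((q : ℤ) ^ 4 - (q : ℤ) ^ 2 + 1) := by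
    have h2 : (finrank ℂ V : ℤ) < ((q * (q ^ 4 - q ^ 2 + 1) : ℕ) : ℤ) := by exact_mod_cast hcon
    simpa [Nat.cast_sub hq2] using h2
  obtain ⟨hm1, heq⟩ := sum_arith (by omega) hV (by omega) (by omega) hconZ
  by_cases hB : OnlyZero Φ ρ (iB Φ)
  · obtain ⟨-, hBeq, hAimp⟩ := eB_split Φ ρ
    have hM := hBeq hB
    have hAz := hAimp (hAB.trans hM)
    have h0 := eB_eq_zero Φ hfix hq ρ hZ hirr hB hAz
    rw [hm1, hM, h0] at hW
    refine last_case Φ hf htG hfix hK hq ρ (hM.trans h0) (hAB.trans (hM.trans h0)) ?_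
    rw [hW]; simp
  · simp only [OnlyZero, not_forall] at hB
    obtain ⟨f, hf0, hfB, hfm⟩ := hB
    have := sub_one_le_eB Φ hfix hq ρ (mult_scl Φ hf htG ρ) hf0 hfB (Nat.pos_of_ne_zero hfm)
    have he : eB Φ ρ = q - 1 := by omega
    have hdvd := Characters.finrank_dvd_card (ρ := ρ)
    refine not_dvd_order q hq ?_
    rw [← natCard_twistedD4 (K := K) (q := q) ?_ hK, htG]
    · refine dvd_trans ⟨q - 1, ?_⟩ hdvd
      have : (finrank ℂ V : ℤ) = ((q ^ 4 + q ^ 3 + 1) * (q - 1) : ℕ) := by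
        rw [hV, hm1, he]
        push_cast [Nat.cast_sub (show 1 ≤ q by omega)]
        ring
      exact_mod_cast this
    · exact hqp

/-- Every irreducible representation of `³D₄(q)` of degree at least two has degree at least
`q (q⁴ - q² + 1)`. -/
theorem degree_bound {K : Type*} [Field K] [Fintype K] {q : ℕ} (hq : IsPrimePow q)
    (hK : Fintype.card K = q ^ 3) {V : Type*} [AddCommGroup V] [Module ℂ V] [FiniteDimensional ℂ V]
    (ρ : Representation ℂ ↥(twistedD4 K q) V) (hirr : ρ.IsIrreducible) (hk : 2 ≤ finrank ℂ V) :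
    q * (q ^ 4 - q ^ 2 + 1) ≤ finrank ℂ V := by
  obtain ⟨Φ, e, hf, hfix, -, h4⟩ := twistedD4_eq_tG hq hK
  suffices H : ∀ L : Subgroup (GL chevD4.Idx K), L = Φ.tG →
      ∀ σ : Representation ℂ ↥L V, σ.IsIrreducible → q * (q ^ 4 - q ^ 2 + 1) ≤ finrank ℂ V from
    H _ e ρ hirr
  rintro L rfl σ hσ
  have := (Φ.isSimple setupD4_faithful setupD4_cert h4).1
  have : Finite ↥Φ.tG := inferInstance
  exact degree_bound_tG Φ hf e hfix hK hq.two_le σ hq hσ hk

end CfsgLib.DFourDegree
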