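import Cfsg.Agent.DFourDegree.Conjugation

/-!
# The radical of the parabolic of the highest root inside `³D₄`, as a group

The root homomorphisms into the twisted group and their relations.
-/

set_option autoImplicit false

namespace CfsgLib.DFourDegree

open Cfsg.Lie CfsgLib.Chevalley CfsgLib.GraphTwist
open CfsgLib.DFourTorus (H4 hSplit)
open scoped MatrixGroups

variable {K : Type*} [Field K] (Φ : FieldTwist setupD4 K)

/-- The fixed field. -/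
def Fx : Subfield K where
  carrier := {x | Φ.f x = x}
  mul_mem' := fun {a b} (ha : Φ.f a = a) (hb : Φ.f b = b) =>
    show Φ.f (a * b) = a * b by rw [map_mul, ha, hb]
  one_mem' := map_one _
  add_mem' := fun {a b} (ha : Φ.f a = a) (hb : Φ.f b = b) =>
    show Φ.f (a + b) = a + b by rw [map_add, ha, hb]
  zero_mem' := map_zero _
  neg_mem' := fun {a} (ha : Φ.f a = a) => show Φ.f (-a) = -a by rw [map_neg, ha]
  inv_mem' := fun a (ha : Φ.f a = a) => show Φ.f a⁻¹ = a⁻¹ by rw [map_inv₀, ha]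

theorem fx_fix (s : Fx Φ) : Φ.f s = s := s.2

/-- The trace, in the fixed field. -/
def trF (x : K) : Fx Φ := ⟨tr3 Φ x, f_tr3 Φ x⟩

/-- The norm, in the fixed field. -/
def nmF (x : K) : Fx Φ := ⟨nm3 Φ x, f_nm3 Φ x⟩

variable [Finite K]

theorem mem_pos {r : ℕ} (hr : r < 24) (hp : 12 ≤ r) {t : K} (ht : Φ.Adm (rr r hr) t) :
    Φ.oX (rr r hr) t ∈ Φ.tG := by
  refine Φ.U1_le_tG ⟨Φ.oX_mem_pos ?_ t, Φ.oX_mem_fix ht⟩
  have : half chevD4 = 12 := by decide +kernel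
  rw [this]
  exact hp

omit [Finite K] in
theorem adm_of_three {r : ℕ} (hr : r < 24) (h : setupD4.osize (rr r hr) = 3) (t : K) :
    Φ.Adm (rr r hr) t := by
  intro hfix
  rw [setupD4.osize_eq, if_pos hfix] at h
  omega

theorem one_mem_of (r : ℕ) (hr : r < 24) (hp : 12 ≤ r) (h : setupD4.osize (rr r hr) = 1)
    (s : Fx Φ) : xx r (s : K) hr ∈ Φ.tG := by
  rw [← oX_one' Φ r hr h]
  exact mem_pos Φ hr hp fun _ => s.2

/-- A root homomorphism of a fixed root. -/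
def fixHom (r : ℕ) (hr : r < 24) (hp : 12 ≤ r) (h : setupD4.osize (rr r hr) = 1) :
    AddChar (Fx Φ) ↥Φ.tG where
  toFun s := ⟨xx r (s : K) hr, one_mem_of Φ r hr hp h s⟩
  map_zero_eq_one' := Subtype.ext (X_zero setupD4.good.good (rr r hr))
  map_add_eq_mul' _ _ := Subtype.ext (X_mul setupD4.good.good (rr r hr) _ _).symm

/-- A root homomorphism of an orbit of three. -/
def orbHom (r : ℕ) (hr : r < 24) (hp : 12 ≤ r) (h : setupD4.osize (rr r hr) = 3) :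
    AddChar K ↥Φ.tG where
  toFun t := ⟨Φ.oX (rr r hr) t, mem_pos Φ hr hp (adm_of_three Φ hr h t)⟩
  map_zero_eq_one' := Subtype.ext (Φ.oX_zero _)
  map_add_eq_mul' _ _ := Subtype.ext (Φ.oX_mul _ _ _).symm

/-- The highest root group. -/
abbrev zc : AddChar (Fx Φ) ↥Φ.tG :=
  fixHom Φ 23 (by decide) (by decide) osize_facts.2.2.2.1

/-- The root group of `b`. -/
abbrev ac : AddChar (Fx Φ) ↥Φ.tG := fixHom Φ 14 (by decide) (by decide) osize_facts.1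

/-- The root group of `3 a + b`. -/
abbrev bc : AddChar (Fx Φ) ↥Φ.tG :=
  fixHom Φ 22 (by decide) (by decide) osize_facts.2.2.1

/-- The root group of `a + b`. -/
abbrev yc : AddChar K ↥Φ.tG := orbHom Φ 19 (by decide) (by decide) osize_facts.2.2.2.2.1

/-- The root group of `2 a + b`. -/
abbrev wc : AddChar K ↥Φ.tG := orbHom Φ 21 (by decide) (by decide) osize_facts.2.2.2.2.2.1

/-- The root group of `a`. -/
abbrev uc : AddChar K ↥Φ.tG := orbHom Φ 18 (by decide) (by decide) osize_facts.2.2.2.2.2.2.1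

theorem zc_central (s : Fx Φ) :
    (∀ a, Commute (zc Φ s) (ac Φ a)) ∧ (∀ y, Commute (zc Φ s) (yc Φ y)) ∧
    (∀ w, Commute (zc Φ s) (wc Φ w)) ∧ (∀ b, Commute (zc Φ s) (bc Φ b)) ∧
    (∀ t, Commute (zc Φ s) (uc Φ t)) ∧ ∀ s', Commute (zc Φ s) (zc Φ s') :=
  ⟨fun _ => Subtype.ext (comm_xx 14 23 (by decide) _ _).symm.eq,
    fun _ => Subtype.ext (comm_x23_y Φ _ _).eq, fun _ => Subtype.ext (comm_x23_w Φ _ _).eq,
    fun _ => Subtype.ext (comm_xx 22 23 (by decide) _ _).symm.eq,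
    fun _ => Subtype.ext (comm_x23_u Φ _ _).eq,
    fun s' => by rw [Commute, SemiconjBy, ← AddChar.map_add_eq_mul, add_comm, AddChar.map_add_eq_mul]⟩

theorem ac_yc (a : Fx Φ) (y : K) : Commute (ac Φ a) (yc Φ y) :=
  Subtype.ext (comm_x14_y Φ _ _).eq

theorem ac_wc (a : Fx Φ) (w : K) : Commute (ac Φ a) (wc Φ w) :=
  Subtype.ext (comm_x14_w Φ _ _).eq

theorem bc_yc (b : Fx Φ) (y : K) : Commute (bc Φ b) (yc Φ y) :=
  Subtype.ext (comm_x22_y Φ _ _).eq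

theorem bc_wc (b : Fx Φ) (w : K) : Commute (bc Φ b) (wc Φ w) :=
  Subtype.ext (comm_x22_w Φ _ _).eq

theorem bc_uc (b : Fx Φ) (t : K) : Commute (bc Φ b) (uc Φ t) :=
  Subtype.ext (comm_x22_u Φ _ _).eq

theorem ac_bc (a b : Fx Φ) : ac Φ a * bc Φ b = zc Φ (a * b) * (bc Φ b * ac Φ a) :=
  Subtype.ext (x14_x22 (a : K) (b : K))

theorem yc_wc (y w : K) :
    yc Φ y * wc Φ w = zc Φ (trF Φ (y * Φ.f w)) * (wc Φ w * yc Φ y) :=
  Subtype.ext (y_w_comm Φ y w)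

theorem uc_wc (t w : K) :
    uc Φ t * wc Φ w = bc Φ (trF Φ (t * Φ.f w)) * (wc Φ w * uc Φ t) :=
  Subtype.ext (u_w_comm Φ t w)

theorem uc_ac (t : K) (s : Fx Φ) : uc Φ t * ac Φ s * (uc Φ t)⁻¹ =
    ac Φ s * yc Φ (-(t * s)) * wc Φ (-(t * Φ.f t * s)) * bc Φ (-(nmF Φ t * s)) *
      zc Φ (-(nmF Φ t * s * s)) :=
  Subtype.ext (u_conj_x14 Φ t (s : K) s.2)

section Torus

variable {q : ℕ} (hf : ∀ x, Φ.f x = x ^ q) (htG : twistedD4 K q = Φ.tG)
include hf htG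

omit [Finite K] in
theorem H14_mem' (a : (Fx Φ)ˣ) : H4 14 (Units.map ((Fx Φ).subtype : Fx Φ →* K) a) ∈ Φ.tG :=
  htG ▸ DFourTorus.H14_mem (f := fh Φ) hf (show Φ.f ((a : Fx Φ) : K) = ((a : Fx Φ) : K) from (a : Fx Φ).2)

omit [Finite K] in
theorem hSplit_mem' (a : Kˣ) : hSplit (fh Φ) a ∈ Φ.tG :=
  htG ▸ DFourTorus.hSplit_mem (f := fh Φ) hf a

omit [Finite K] in
theorem scalE_mem (a : (Fx Φ)ˣ) :
    scalE Φ (Units.map ((Fx Φ).subtype : Fx Φ →* K) a) ∈ Φ.tG :=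
  mul_mem (mul_mem (H14_mem' Φ hf htG a) (H14_mem' Φ hf htG a)) (hSplit_mem' Φ hf htG _)

/-- The torus moves the highest root elements transitively. -/
theorem exists_conj_zc (a : (Fx Φ)ˣ) : ∃ g : ↥Φ.tG, ∀ s, g * zc Φ s * g⁻¹ = zc Φ (a * s) :=
  ⟨⟨_, H14_mem' Φ hf htG a⟩, fun _ => Subtype.ext (H14_x23 _ _)⟩

/-- The scalars of the radical. -/
theorem exists_scalar (a : (Fx Φ)ˣ) : ∃ g : ↥Φ.tG,
    (∀ s, g * zc Φ s * g⁻¹ = zc Φ (a * a * s)) ∧ (∀ s, g * ac Φ s * g⁻¹ = ac Φ (a * s)) ∧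
    (∀ y, g * yc Φ y * g⁻¹ = yc Φ (((a : Fx Φ) : K) * y)) ∧
    (∀ w, g * wc Φ w * g⁻¹ = wc Φ (((a : Fx Φ) : K) * w)) ∧
    ∀ s, g * bc Φ s * g⁻¹ = bc Φ (a * s) := by
  set a' : Kˣ := Units.map ((Fx Φ).subtype : Fx Φ →* K) a with ha'
  have hm := scalE_mem Φ hf htG a
  have hfix : scalE Φ a' ∈ Φ.fix := Φ.tG_le_fix hm
  have h := fun t => scalE_conj Φ a' (a : Fx Φ).2 t
  exact ⟨⟨_, hm⟩, fun _ => Subtype.ext (h _).2.2.2.2, fun _ => Subtype.ext (h _).1,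
    fun y => Subtype.ext (conj_oX_self Φ hfix (h y).2.1),
    fun w => Subtype.ext (conj_oX_self Φ hfix (h w).2.2.1), fun s => Subtype.ext (h _).2.2.2.1⟩

/-- The split torus on the radical. -/
theorem exists_split (a : Kˣ) : ∃ (g : ↥Φ.tG) (μ : K),
    (∀ s, g * zc Φ s * g⁻¹ = zc Φ s) ∧ (∀ s, g * ac Φ s * g⁻¹ = ac Φ ((nmF Φ (a : K))⁻¹ * s)) ∧
    (∀ y, g * yc Φ y * g⁻¹ = yc Φ ((a : K) / (Φ.f a * Φ.f (Φ.f a)) * y)) ∧
    (∀ w, g * wc Φ w * g⁻¹ = wc Φ (μ * w)) ∧ μ ≠ 0 ∧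
    ∀ s, g * bc Φ s * g⁻¹ = bc Φ (nmF Φ (a : K) * s) := by
  have hm := hSplit_mem' Φ hf htG a
  have hfix : hSplit (fh Φ) a ∈ Φ.fix := Φ.tG_le_fix hm
  have h := fun t => hSplit_weights Φ a t
  exact ⟨⟨_, hm⟩, _, fun _ => Subtype.ext (h _).2.2.2.2, fun _ => Subtype.ext (h _).1,
    fun y => Subtype.ext (conj_oX_self Φ hfix (h y).2.1),
    fun w => Subtype.ext (conj_oX_self Φ hfix (h w).2.2.1), by simp,
    fun s => Subtype.ext (h _).2.2.2.1⟩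

end Torus

/-- An orbit reflection, as an element of the twisted group. -/
def nG (o : Fin setupD4.cfg.m) : ↥Φ.tG := ⟨Φ.nO o, Φ.nO_mem_tG o⟩

omit [Finite K] in
theorem scalar_fix {r : ℕ} (hr : r < 24) (h : setupD4.osize (rr r hr) = 1) {c : Kˣ}
    (hc : ∀ t : K, t = 1 → Φ.Adm (rr r hr) ((c : K) * t)) : (c : K) ∈ Fx Φ := by
  have hfix : setupD4.σR (rr r hr) = rr r hr := by
    by_contra hne
    rw [setupD4.osize_eq, if_neg hne] at h
    exact absurd h (by decide)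
  show Φ.f c = c
  simpa using hc 1 rfl hfix

/-- A reflection between fixed roots. -/
theorem nG_fix (o : Fin setupD4.cfg.m) (r r' : ℕ) (hr : r < 24) (hr' : r' < 24) (hp : 12 ≤ r)
    (hp' : 12 ≤ r') (h1 : setupD4.osize (rr r hr) = 1) (h1' : setupD4.osize (rr r' hr') = 1)
    (h : setupD4.wR o (rr r hr) = rr r' hr') :
    ∃ c : (Fx Φ)ˣ, ∀ s, nG Φ o * fixHom Φ r hr hp h1 s * (nG Φ o)⁻¹ =
      fixHom Φ r' hr' hp' h1' (c * s) := by
  obtain ⟨c, hc⟩ := nO_conj Φ o r r' hr hr' h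
  have hmem : (c : K) ∈ Fx Φ :=
    scalar_fix Φ hr' h1' fun t ht => (hc t (fun _ => by rw [ht, map_one])).1
  refine ⟨Units.mk0 ⟨c, hmem⟩ fun e => c.ne_zero (congrArg Subtype.val e), fun s => Subtype.ext ?_⟩
  have := (hc (s : K) fun _ => s.2).2
  rw [oX_one' Φ r hr h1, oX_one' Φ r' hr' h1'] at this
  exact this

/-- The twisted group is generated by the root groups of `a`, `b` and the orbit reflections. -/
theorem top_le (L : Subgroup ↥Φ.tG) (hu : ∀ t, uc Φ t ∈ L) (ha : ∀ s, ac Φ s ∈ L)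
    (hn : ∀ o, nG Φ o ∈ L) : L = ⊤ := by
  rw [eq_top_iff]
  rintro ⟨x, hx⟩ -
  suffices H : ∃ h : x ∈ Φ.tG, (⟨x, h⟩ : ↥Φ.tG) ∈ L from H.2
  suffices H : Φ.tG ≤ L.map Φ.tG.subtype by
    obtain ⟨⟨y, hy⟩, hL, e⟩ := H hx
    obtain rfl : y = x := e
    exact ⟨hy, hL⟩
  refine (Subgroup.closure_le _).2 ?_
  rintro g ⟨o, bo, t, ht, rfl⟩
  have key : ∀ (o : Fin setupD4.cfg.m) (r r' : Root chevD4), setupD4.wR o r = r' →
      (∀ t, Φ.Adm r t → Φ.oX r t ∈ L.map Φ.tG.subtype) →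
      ∀ t, Φ.Adm r' t → Φ.oX r' t ∈ L.map Φ.tG.subtype := by
    rintro o r r' h hr t ht
    obtain ⟨c, hc⟩ := Φ.conj_oX (Φ.monBy_nO o) (Φ.nO_mem_fix o) r
    have hadm : Φ.Adm r (((c⁻¹ : Kˣ) : K) * t) := by
      intro hfix
      have h2 := (hc 1 (Φ.adm_one r)).1
      rw [h] at h2
      have hfix' : setupD4.σR r' = r' :=
        h ▸ (Φ.osize_monBy (Φ.monBy_nO o) (Φ.nO_mem_fix o) r).2 hfix
      have hfc := h2 hfix'
      rw [mul_one] at hfc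
      rw [Units.val_inv_eq_inv_val, map_mul, map_inv₀, hfc, ht hfix']
    have := (hc _ hadm).2
    rw [h, ← mul_assoc, ← Units.val_mul, mul_inv_cancel, Units.val_one, one_mul] at this
    rw [← this]
    have hn' : Φ.nO o ∈ L.map Φ.tG.subtype := ⟨_, hn o, rfl⟩
    exact mul_mem (mul_mem hn' (hr _ hadm)) (inv_mem hn')
  have hU : ∀ t, Φ.Adm (rr 18) t → Φ.oX (rr 18) t ∈ L.map Φ.tG.subtype :=
    fun t _ => ⟨_, hu t, rfl⟩
  have hA : ∀ t, Φ.Adm (rr 14) t → Φ.oX (rr 14) t ∈ L.map Φ.tG.subtype := fun t ht =>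
    ⟨_, ha ⟨t, ht root_facts.1⟩, (oX_one' Φ 14 _ osize_facts.1 t).symm⟩
  have ho : o = oD0 ∨ o = oD1 := by
    rcases o with ⟨_ | _ | n, hn⟩
    · exact Or.inl rfl
    · exact Or.inr rfl
    · exact absurd hn (by show ¬(n + 2 < 2); omega)
  rcases ho with rfl | rfl <;> cases bo
  · exact hU t (spR_facts.1.1 ▸ ht) |> fun h => by simpa [FieldTwist.sdR, spR_facts.1.1] using h
  · have := key oD0 _ _ wR_facts.2.2.2.1 hU t (by simpa [FieldTwist.sdR, spR_facts.1.2] using ht)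
    simpa [FieldTwist.sdR, spR_facts.1.2] using this
  · exact hA t (spR_facts.2.1 ▸ ht) |> fun h => by simpa [FieldTwist.sdR, spR_facts.2.1] using h
  · have := key oD1 _ _ wR_facts.2.2.2.2.2.2 hA t (by simpa [FieldTwist.sdR, spR_facts.2.2] using ht)
    simpa [FieldTwist.sdR, spR_facts.2.2] using this

end CfsgLib.DFourDegree
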