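import Cfsg.Agent.RepBounds.Restrict

/-!
# Weights of restrictions of a family of operators, and scalings of additive characters
-/

set_option autoImplicit false

namespace CfsgLib.DFourDegree

open Module CfsgLib.RepBounds

variable {A B V : Type*} [AddCommGroup A] [Fintype A] [AddCommGroup B] [Fintype B]
  [AddCommGroup V] [Module ℂ V] [FiniteDimensional ℂ V]

/-- The order of the family times a multiplicity. -/
theorem card_mul_mult (α : AddChar A (End ℂ V)) (χ : AddChar A ℂ) :
    (Fintype.card A : ℂ) * mult α χ = ∑ a, χ (-a) * LinearMap.trace ℂ V (α a) := by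
  rw [← trace_proj, proj, map_smul, map_sum, smul_eq_mul,
    mul_inv_cancel_left₀ (Nat.cast_ne_zero.mpr Fintype.card_ne_zero)]
  simp only [map_smul, smul_eq_mul]

/-- Multiplicities for a restricted family. -/
theorem mult_compHom [DecidableEq (AddChar B ℂ)] (α : AddChar A (End ℂ V)) (ι : B →+ A)
    (g : AddChar B ℂ) :
    mult (α.compAddMonoidHom ι) g =
      ∑ f ∈ Finset.univ.filter (fun f : AddChar A ℂ => f.compAddMonoidHom ι = g), mult α f := by
  classical
  have hB : (Fintype.card B : ℂ) ≠ 0 := Nat.cast_ne_zero.mpr Fintype.card_ne_zero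
  apply Nat.cast_injective (R := ℂ)
  apply mul_left_cancel₀ hB
  rw [card_mul_mult, Nat.cast_sum, Finset.mul_sum, Finset.sum_filter]
  simp only [AddChar.compAddMonoidHom_apply, trace_map, Finset.mul_sum]
  rw [Finset.sum_comm]
  refine Finset.sum_congr rfl fun f _ => ?_
  have e : ∀ b : B, g (-b) * (f (ι b) * (mult α f : ℂ)) =
      (f.compAddMonoidHom ι * g⁻¹ : AddChar B ℂ) b * (mult α f : ℂ) := fun b => by
    rw [AddChar.mul_apply, AddChar.compAddMonoidHom_apply, AddChar.inv_apply]; ring
  rw [Finset.sum_congr rfl fun b _ => e b, ← Finset.sum_mul, AddChar.sum_eq_ite]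
  by_cases h : f.compAddMonoidHom ι = g
  · rw [if_pos h, if_pos]
    rw [h, mul_inv_cancel]; rfl
  · rw [if_neg h, if_neg, zero_mul]
    intro h'
    exact h (mul_inv_eq_one.1 h')

theorem mem_range_proj (α : AddChar A (End ℂ V)) (χ : AddChar A ℂ) (v : V) :
    v ∈ LinearMap.range (proj α χ) ↔ ∀ a, α a v = χ a • v := by
  constructor
  · rintro ⟨x, rfl⟩ a
    exact LinearMap.congr_fun (map_mul_proj α χ a) x
  · intro h
    refine ⟨v, ?_⟩
    simp only [proj, LinearMap.smul_apply, LinearMap.sum_apply, h, smul_smul,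
      ← AddChar.map_add_eq_mul, neg_add_cancel, AddChar.map_zero_eq_one, one_smul,
      Finset.sum_const, Finset.card_univ, ← Nat.cast_smul_eq_nsmul ℂ]
    rw [inv_mul_cancel₀ (Nat.cast_ne_zero.mpr Fintype.card_ne_zero), one_smul]

theorem exists_vec (α : AddChar A (End ℂ V)) (χ : AddChar A ℂ) (h : 0 < mult α χ) :
    ∃ v : V, v ≠ 0 ∧ ∀ a, α a v = χ a • v := by
  obtain ⟨v, hv, hv0⟩ : ∃ v ∈ LinearMap.range (proj α χ), v ≠ 0 := by
    by_contra hc
    simp only [not_exists, not_and, not_not] at hc
    have hb : LinearMap.range (proj α χ) = ⊥ := (Submodule.eq_bot_iff _).2 hc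
    rw [mult, hb, finrank_bot] at h
    exact lt_irrefl _ h
  exact ⟨v, hv0, (mem_range_proj α χ v).1 hv⟩

theorem mult_pos (α : AddChar A (End ℂ V)) (χ : AddChar A ℂ) {v : V} (hv : v ≠ 0)
    (h : ∀ a, α a v = χ a • v) : 0 < mult α χ := by
  refine Nat.pos_of_ne_zero fun h0 => hv ?_
  rw [mult, Submodule.finrank_eq_zero] at h0
  have := (mem_range_proj α χ v).2 h
  rwa [h0, Submodule.mem_bot] at this

omit [Fintype A] [FiniteDimensional ℂ V] in
theorem commute_map (α : AddChar A (End ℂ V)) (a b : A) : Commute (α a) (α b) := by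
  rw [Commute, SemiconjBy, ← AddChar.map_add_eq_mul, add_comm, AddChar.map_add_eq_mul]

omit [Fintype B] in
/-- A vector with a weight on which the whole family is known to vanish has no other components. -/
theorem eigen_of_vanish (α : AddChar A (End ℂ V)) (ι : B →+ A) {v : V}
    (hv : ∀ b, α (ι b) v = v)
    (h : ∀ f : AddChar A ℂ, f ≠ 0 → f.compAddMonoidHom ι = 0 → mult α f = 0) (a : A) :
    α a v = v := by
  classical
  have hz : ∀ f : AddChar A ℂ, f ≠ 0 → proj α f v = 0 := by
    intro f hf
    by_cases hb : f.compAddMonoidHom ι = 0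
    · have := h f hf hb
      rw [mult, Submodule.finrank_eq_zero, LinearMap.range_eq_bot] at this
      rw [this, LinearMap.zero_apply]
    · obtain ⟨b, hb⟩ := AddChar.ne_zero_iff.1 hb
      have hc : Commute (α (ι b)) (proj α f) :=
        (Commute.sum_right _ _ _ fun a _ => (commute_map α _ a).smul_right _).smul_right _
      have e1 := LinearMap.congr_fun (map_mul_proj α f (ι b)) v
      have e2 := LinearMap.congr_fun hc.eq v
      simp only [Module.End.mul_apply, LinearMap.smul_apply, hv] at e1 e2
      by_contra hne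
      refine hb ?_
      rw [e2] at e1
      have := e1.symm.trans (one_smul ℂ _).symm
      exact smul_left_injective ℂ hne this
  have h0 : v = proj α 0 v := by
    conv_lhs => rw [show v = (1 : End ℂ V) v from rfl, ← sum_proj α, LinearMap.sum_apply,
      Finset.sum_eq_single 0 (fun f _ hf => hz f hf) (by simp)]
  rw [h0]
  have := LinearMap.congr_fun (map_mul_proj α 0 a) v
  simpa using this

section Scaling

variable {F : Type*} [Field F] [Fintype F]

omit [Fintype F] in
theorem mulShift_injective {l : AddChar F ℂ} (hl : l ≠ 0) :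
    Function.Injective fun a : F => l.compAddMonoidHom (AddMonoidHom.mulLeft a) := by
  intro a b h
  by_contra hab
  obtain ⟨x, hx⟩ := AddChar.ne_zero_iff.1 hl
  have := DFunLike.congr_fun h (x / (a - b))
  simp only [AddChar.compAddMonoidHom_apply, AddMonoidHom.coe_mulLeft] at this
  refine hx ?_
  have e : a * (x / (a - b)) = b * (x / (a - b)) + x := by
    rw [← sub_eq_iff_eq_add', ← sub_mul, mul_div_cancel₀ _ (sub_ne_zero.2 hab)]
  rw [e, AddChar.map_add_eq_mul] at this
  have hne : l (b * (x / (a - b))) ≠ 0 := fun h0 => by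
    have := AddChar.map_add_eq_mul l (b * (x / (a - b))) (-(b * (x / (a - b))))
    rw [add_neg_cancel, AddChar.map_zero_eq_one, h0, zero_mul] at this
    exact one_ne_zero this
  exact (mul_eq_left₀ hne).1 this

theorem mulShift_surjective {l : AddChar F ℂ} (hl : l ≠ 0) (g : AddChar F ℂ) :
    ∃ a : F, l.compAddMonoidHom (AddMonoidHom.mulLeft a) = g :=
  ((Fintype.bijective_iff_injective_and_card _).2
    ⟨mulShift_injective hl, AddChar.card_eq.symm⟩).2 g

end Scaling

end CfsgLib.DFourDegree
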