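import Cfsg.Agent.DFourDegree.Field
import Cfsg.Agent.DFourDegree.Weights

/-!
# The action on the fixed vectors of the highest root group

On the fixed space `Wz` of the highest root group the radical acts through the abelian group
`Fx × K × K × Fx`, giving the family `aQ` of operators.
-/

set_option autoImplicit false
set_option linter.unusedSectionVars false

namespace CfsgLib.DFourDegree

open Cfsg.Lie CfsgLib.Chevalley CfsgLib.GraphTwist CfsgLib.RepBounds Module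

variable {K : Type*} [Field K] [Fintype K] (Φ : FieldTwist setupD4 K)

noncomputable instance instFintypeFx : Fintype (Fx Φ) := Fintype.ofFinite _

/-- The coordinates of the radical modulo the highest root group. -/
abbrev Qbar : Type _ := Fx Φ × K × K × Fx Φ

/-- The coordinate of `b`. -/
def iA : Fx Φ →+ Qbar Φ := AddMonoidHom.inl _ _

/-- The coordinate of `a + b`. -/
def iY : K →+ Qbar Φ := (AddMonoidHom.inr _ _).comp (AddMonoidHom.inl _ _)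

/-- The coordinates of `2 a + b` and `3 a + b`. -/
def iWB : K × Fx Φ →+ Qbar Φ := (AddMonoidHom.inr _ _).comp (AddMonoidHom.inr _ _)

/-- The coordinate of `3 a + b`. -/
def iB : Fx Φ →+ Qbar Φ := (iWB Φ).comp (AddMonoidHom.inr _ _)

theorem qbar_eq (v : Qbar Φ) :
    v = iA Φ v.1 + iY Φ v.2.1 + iWB Φ (v.2.2.1, v.2.2.2) := by
  obtain ⟨a, y, w, b⟩ := v
  simp [iA, iY, iWB]

variable {V : Type*} [AddCommGroup V] [Module ℂ V] [FiniteDimensional ℂ V]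
  (ρ : Representation ℂ ↥Φ.tG V)

/-- The family of the highest root group. -/
noncomputable abbrev aZ : AddChar (Fx Φ) (End ℂ V) := resChar ρ (zc Φ)

/-- The fixed space of the highest root group. -/
noncomputable abbrev Wz : Submodule ℂ V := LinearMap.range (proj (aZ Φ ρ) 0)

theorem mem_Wz {v : V} : v ∈ Wz Φ ρ ↔ ∀ s, ρ (zc Φ s) v = v := by
  rw [Wz, mem_range_proj]
  simp only [resChar_apply, AddChar.zero_apply, one_smul]

/-- The elements preserving the fixed space. -/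
def Nz : Subgroup ↥Φ.tG where
  carrier := {g | ∀ v, v ∈ Wz Φ ρ ↔ ρ g v ∈ Wz Φ ρ}
  one_mem' v := by rw [map_one]; rfl
  mul_mem' {g h} hg hh v := by
    rw [map_mul, Module.End.mul_apply, ← hg, ← hh]
  inv_mem' {g} hg v := by
    rw [hg (ρ g⁻¹ v), ← Module.End.mul_apply, ← map_mul, mul_inv_cancel, map_one,
      Module.End.one_apply]

/-- Conjugation moving the fixed vectors of one family to those of another. -/
theorem fixed_iff_of_conj {ι κ : Type*} (g : ↥Φ.tG) (z : ι → ↥Φ.tG) (z' : κ → ↥Φ.tG) (π : ι → κ)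
    (hπ : Function.Surjective π) (h : ∀ s, g * z s * g⁻¹ = z' (π s)) (v : V) :
    (∀ s, ρ (z s) v = v) ↔ ∀ s, ρ (z' s) (ρ g v) = ρ g v := by
  rw [hπ.forall]
  refine forall_congr' fun s => ?_
  rw [← h, ← Module.End.mul_apply, ← map_mul, inv_mul_cancel_right, map_mul,
    Module.End.mul_apply]
  exact (ρ.apply_bijective g).1.eq_iff.symm

theorem mem_Nz_of_conj {g : ↥Φ.tG} {π : Fx Φ → Fx Φ} (hπ : Function.Surjective π)
    (h : ∀ s, g * zc Φ s * g⁻¹ = zc Φ (π s)) : g ∈ Nz Φ ρ := fun v => by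
  rw [mem_Wz, mem_Wz, fixed_iff_of_conj Φ ρ g _ _ π hπ h]

theorem mem_Nz_of_commute {g : ↥Φ.tG} (h : ∀ s, Commute (zc Φ s) g) : g ∈ Nz Φ ρ :=
  mem_Nz_of_conj Φ ρ (π := id) Function.surjective_id fun s => by
    rw [← (h s).eq, mul_inv_cancel_right]; rfl

/-- The action on the fixed space. -/
noncomputable def sg : ↥(Nz Φ ρ) →* End ℂ ↥(Wz Φ ρ) where
  toFun g := (ρ (g : ↥Φ.tG)).restrict fun v hv => (g.2 v).1 hv
  map_one' := LinearMap.ext fun v => Subtype.ext (by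
    show ρ ((1 : ↥(Nz Φ ρ)) : ↥Φ.tG) (v : V) = (v : V)
    rw [OneMemClass.coe_one, map_one, Module.End.one_apply])
  map_mul' g h := LinearMap.ext fun v => Subtype.ext (by
    show ρ ((g * h : ↥(Nz Φ ρ)) : ↥Φ.tG) (v : V) = ρ (g : ↥Φ.tG) (ρ (h : ↥Φ.tG) (v : V))
    rw [Subgroup.coe_mul, map_mul, Module.End.mul_apply])

theorem sg_apply (g : ↥(Nz Φ ρ)) (v : ↥(Wz Φ ρ)) : (sg Φ ρ g v : V) = ρ (g : ↥Φ.tG) v := rfl

/-- Elements of the group, in `Nz`. -/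
def zN (s : Fx Φ) : ↥(Nz Φ ρ) := ⟨zc Φ s, mem_Nz_of_commute Φ ρ fun _ => (zc_central Φ _).2.2.2.2.2 s⟩

/-- The root group of `b`, in `Nz`. -/
def aN (s : Fx Φ) : ↥(Nz Φ ρ) := ⟨ac Φ s, mem_Nz_of_commute Φ ρ fun _ => (zc_central Φ _).1 s⟩

/-- The root group of `a + b`, in `Nz`. -/
def yN (s : K) : ↥(Nz Φ ρ) := ⟨yc Φ s, mem_Nz_of_commute Φ ρ fun _ => (zc_central Φ _).2.1 s⟩

/-- The root group of `2 a + b`, in `Nz`. -/
def wN (s : K) : ↥(Nz Φ ρ) := ⟨wc Φ s, mem_Nz_of_commute Φ ρ fun _ => (zc_central Φ _).2.2.1 s⟩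

/-- The root group of `3 a + b`, in `Nz`. -/
def bN (s : Fx Φ) : ↥(Nz Φ ρ) := ⟨bc Φ s, mem_Nz_of_commute Φ ρ fun _ => (zc_central Φ _).2.2.2.1 s⟩

/-- The root group of `a`, in `Nz`. -/
def uN (t : K) : ↥(Nz Φ ρ) := ⟨uc Φ t, mem_Nz_of_commute Φ ρ fun _ => (zc_central Φ _).2.2.2.2.1 t⟩

theorem sg_zN (s : Fx Φ) : sg Φ ρ (zN Φ ρ s) = 1 :=
  LinearMap.ext fun v => Subtype.ext ((mem_Wz Φ ρ).1 v.2 s)

theorem sg_commute {g h : ↥(Nz Φ ρ)} (s : Fx Φ)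
    (e : (g : ↥Φ.tG) * h = zc Φ s * (h * g)) : Commute (sg Φ ρ g) (sg Φ ρ h) := by
  have e' : g * h = zN Φ ρ s * (h * g) := Subtype.ext e
  have := congrArg (sg Φ ρ) e'
  rw [map_mul, map_mul, sg_zN, one_mul, map_mul] at this
  exact this

theorem sg_commute' {g h : ↥(Nz Φ ρ)} (e : Commute (g : ↥Φ.tG) h) :
    Commute (sg Φ ρ g) (sg Φ ρ h) :=
  sg_commute Φ ρ 0 (by rw [AddChar.map_zero_eq_one, one_mul]; exact e.eq)

theorem aN_add (s t : Fx Φ) : aN Φ ρ (s + t) = aN Φ ρ s * aN Φ ρ t :=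
  Subtype.ext ((ac Φ).map_add_eq_mul s t)

theorem yN_add (s t : K) : yN Φ ρ (s + t) = yN Φ ρ s * yN Φ ρ t :=
  Subtype.ext ((yc Φ).map_add_eq_mul s t)

theorem wN_add (s t : K) : wN Φ ρ (s + t) = wN Φ ρ s * wN Φ ρ t :=
  Subtype.ext ((wc Φ).map_add_eq_mul s t)

theorem bN_add (s t : Fx Φ) : bN Φ ρ (s + t) = bN Φ ρ s * bN Φ ρ t :=
  Subtype.ext ((bc Φ).map_add_eq_mul s t)

omit [Fintype K] in
/-- Reordering a product of two ordered products of four. -/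
theorem rearrange8 {M : Type*} [Monoid M] {A Y W B A' Y' W' B' : M} (c1 : Commute Y A')
    (c2 : Commute B A') (c3 : Commute W A') (c4 : Commute B Y') (c5 : Commute W Y')
    (c6 : Commute B W') :
    A * A' * (Y * Y') * (W * W' * (B * B')) = A * Y * (W * B) * (A' * Y' * (W' * B')) := by
  have d1 : Commute (Y * (W * B)) A' := c1.mul_left (c3.mul_left c2)
  calc A * A' * (Y * Y') * (W * W' * (B * B'))
      = A * A' * Y * (Y' * W) * (W' * B) * B' := by simp only [mul_assoc]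
    _ = A * A' * Y * (W * Y') * (B * W') * B' := by rw [← c5.eq, ← c6.eq]
    _ = A * A' * Y * W * (Y' * B) * W' * B' := by simp only [mul_assoc]
    _ = A * A' * Y * W * (B * Y') * W' * B' := by rw [← c4.eq]
    _ = A * (A' * (Y * (W * B))) * Y' * (W' * B') := by simp only [mul_assoc]
    _ = A * Y * (W * B) * (A' * Y' * (W' * B')) := by rw [← d1.eq]; simp only [mul_assoc]

/-- The operators of the radical on the fixed space. -/
noncomputable def aQ : AddChar (Qbar Φ) (End ℂ ↥(Wz Φ ρ)) where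
  toFun v := sg Φ ρ (aN Φ ρ v.1 * yN Φ ρ v.2.1 * (wN Φ ρ v.2.2.1 * bN Φ ρ v.2.2.2))
  map_zero_eq_one' := by
    rw [show (aN Φ ρ (0 : Qbar Φ).1 * yN Φ ρ (0 : Qbar Φ).2.1 *
        (wN Φ ρ (0 : Qbar Φ).2.2.1 * bN Φ ρ (0 : Qbar Φ).2.2.2)) = 1 from Subtype.ext (by
      simp [aN, yN, wN, bN, AddChar.map_zero_eq_one]), map_one]
  map_add_eq_mul' u v := by
    have c1 : Commute (sg Φ ρ (yN Φ ρ u.2.1)) (sg Φ ρ (aN Φ ρ v.1)) :=
      (sg_commute' Φ ρ (ac_yc Φ _ _)).symm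
    have c2 : Commute (sg Φ ρ (bN Φ ρ u.2.2.2)) (sg Φ ρ (aN Φ ρ v.1)) :=
      (sg_commute Φ ρ _ (ac_bc Φ _ _)).symm
    have c3 : Commute (sg Φ ρ (wN Φ ρ u.2.2.1)) (sg Φ ρ (aN Φ ρ v.1)) :=
      (sg_commute' Φ ρ (ac_wc Φ _ _)).symm
    have c4 : Commute (sg Φ ρ (bN Φ ρ u.2.2.2)) (sg Φ ρ (yN Φ ρ v.2.1)) :=
      sg_commute' Φ ρ (bc_yc Φ _ _)
    have c5 : Commute (sg Φ ρ (wN Φ ρ u.2.2.1)) (sg Φ ρ (yN Φ ρ v.2.1)) :=
      (sg_commute Φ ρ _ (yc_wc Φ _ _)).symm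
    have c6 : Commute (sg Φ ρ (bN Φ ρ u.2.2.2)) (sg Φ ρ (wN Φ ρ v.2.2.1)) :=
      sg_commute' Φ ρ (bc_wc Φ _ _)
    simp only [Prod.fst_add, Prod.snd_add, aN_add, yN_add, wN_add, bN_add, map_mul]
    exact rearrange8 c1 c2 c3 c4 c5 c6

theorem aQ_apply (v : Qbar Φ) :
    aQ Φ ρ v = sg Φ ρ (aN Φ ρ v.1 * yN Φ ρ v.2.1 * (wN Φ ρ v.2.2.1 * bN Φ ρ v.2.2.2)) := rfl

theorem aQ_iA (s : Fx Φ) : aQ Φ ρ (iA Φ s) = sg Φ ρ (aN Φ ρ s) := by
  rw [aQ_apply]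
  congr 1
  exact Subtype.ext (by simp [aN, yN, wN, bN, iA])

theorem aQ_iY (s : K) : aQ Φ ρ (iY Φ s) = sg Φ ρ (yN Φ ρ s) := by
  rw [aQ_apply]
  congr 1
  exact Subtype.ext (by simp [aN, yN, wN, bN, iY])

theorem aQ_iB (s : Fx Φ) : aQ Φ ρ (iB Φ s) = sg Φ ρ (bN Φ ρ s) := by
  rw [aQ_apply]
  congr 1
  exact Subtype.ext (by simp [aN, yN, wN, bN, iB, iWB])

theorem aQ_iWB (v : K × Fx Φ) : aQ Φ ρ (iWB Φ v) = sg Φ ρ (wN Φ ρ v.1 * bN Φ ρ v.2) := by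
  rw [aQ_apply]
  congr 1
  exact Subtype.ext (by simp [aN, yN, wN, bN, iWB])

/-- The trace on the fixed space. -/
theorem trace_sg (g : ↥(Nz Φ ρ)) : (Fintype.card (Fx Φ) : ℂ) * LinearMap.trace ℂ _ (sg Φ ρ g) =
    ∑ s, ρ.character ((g : ↥Φ.tG) * zc Φ s) := by
  have hmem : ∀ x, (ρ (g : ↥Φ.tG) * proj (aZ Φ ρ) 0) x ∈ Wz Φ ρ := fun x =>
    (g.2 _).1 (LinearMap.mem_range_self _ x)
  have hres : sg Φ ρ g = (ρ (g : ↥Φ.tG) * proj (aZ Φ ρ) 0).restrict (fun v _ => hmem v) := by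
    refine LinearMap.ext fun v => Subtype.ext ?_
    show ρ (g : ↥Φ.tG) v = ρ (g : ↥Φ.tG) (proj (aZ Φ ρ) 0 (v : V))
    obtain ⟨x, hx⟩ := v.2
    rw [← hx, ← Module.End.mul_apply (proj (aZ Φ ρ) 0), proj_mul_proj]
  rw [hres, LinearMap.trace_restrict_eq_of_forall_mem _ _ hmem, proj, mul_smul_comm, map_smul,
    smul_eq_mul, mul_inv_cancel_left₀ (Nat.cast_ne_zero.mpr Fintype.card_ne_zero), Finset.mul_sum,
    map_sum]
  refine Finset.sum_congr rfl fun s _ => ?_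
  rw [AddChar.zero_apply, one_smul, resChar_apply, ← map_mul]
  rfl

/-- An element of `Nz` moving the family along a permutation permutes the weights. -/
theorem mult_conj {A : Type*} [AddCommGroup A] [Fintype A] (al : AddChar A (End ℂ ↥(Wz Φ ρ)))
    (g : ↥(Nz Φ ρ)) (σ : A ≃+ A) (h : ∀ a, sg Φ ρ g * al a = al (σ a) * sg Φ ρ g)
    (χ : AddChar A ℂ) :
    mult al (χ.compAddMonoidHom σ.toAddMonoidHom) = mult al χ := by
  refine mult_comp al σ (fun a => ?_) χ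
  rw [show al (σ a) = sg Φ ρ g * al a * sg Φ ρ g⁻¹ by
    rw [h, mul_assoc, ← map_mul, mul_inv_cancel, map_one, mul_one],
    LinearMap.trace_mul_comm, ← mul_assoc, ← map_mul, inv_mul_cancel, map_one, one_mul]

end CfsgLib.DFourDegree
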